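import Cfsg.Agent.Lib.CIT.Simple
import Cfsg.Agent.Lib.Core.FPFComplement
import Cfsg.Agent.Lib.Core.Cores
import Cfsg.Agent.Lib.Perm.CharSimple
import Cfsg.Agent.Lib.Recog.SmallOrders.AlmostSimple

/-!
Owner: helper3. CIT groups with a prime graph given from outside: the simple normal subgroup, the primes of its
index, and the count of a simple CIT group with elementary abelian Sylow 2-subgroups.
-/

set_option autoImplicit false
set_option linter.all false

namespace CfsgLib.Recog.CITGraph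

open Subgroup
open CfsgLib.CIT (CIT)

universe u

variable {X : Type u} [Group X] [Finite X]

theorem cit_of_no_two_mul (h : ∀ r : ℕ, r.Prime → r ≠ 2 → ¬ ∃ x : X, orderOf x = 2 * r) : CIT X := by
  intro t ht
  haveI : Fact (Nat.Prime 2) := ⟨Nat.prime_two⟩
  rw [IsPGroup.iff_orderOf (p := 2)]
  intro x
  refine ⟨_, Nat.eq_prime_pow_of_unique_prime_dvd (orderOf_pos x).ne' fun {r} hr hrd => ?_⟩
  by_contra hr2
  haveI := Fact.mk hr
  have hy : orderOf ((x : X) ^ (orderOf x / r)) = r := by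
    rw [← Subgroup.coe_pow, Subgroup.orderOf_coe, orderOf_pow_orderOf_div (orderOf_pos x).ne' hrd]
  have hc : Commute t ((x : X) ^ (orderOf x / r)) :=
    (show Commute t (x : X) from (mem_centralizer_singleton_iff.1 x.2).symm).pow_right _
  exact h r hr hr2 ⟨_, by rw [hc.orderOf_mul_eq_mul_orderOf_of_coprime (by
    rw [ht, hy]; exact (Nat.coprime_primes Nat.prime_two hr).2 (Ne.symm hr2)), ht, hy]⟩

theorem cit_quotient_core (hC : CIT X) : CIT (X ⧸ Cfsg.pCore 2 X) := by
  haveI : Fact (Nat.Prime 2) := ⟨Nat.prime_two⟩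
  have hmap : (Cfsg.pCore 2 (⊤ : Subgroup X)).map (topEquiv : (⊤ : Subgroup X) ≃* X).toMonoidHom
      = Cfsg.pCore 2 X := by
    refine le_antisymm (CfsgLib.Core.map_subtype_pCore_le ⊤) fun x hx => ?_
    exact ⟨⟨x, mem_top x⟩, CfsgLib.Core.pCore_subgroupOf_le (⊤ : Subgroup X) hx, rfl⟩
  set e := QuotientGroup.congr (Cfsg.pCore 2 (⊤ : Subgroup X)) (Cfsg.pCore 2 X) topEquiv hmap
  intro y hy
  have h1 := hC.quotient (⊤ : Subgroup X) (e.symm y) (by rw [MulEquiv.orderOf_eq, hy])
  intro z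
  have hmem : e.symm (z : X ⧸ Cfsg.pCore 2 X) ∈ centralizer ({e.symm y} : Set _) := by
    rw [mem_centralizer_singleton_iff, ← map_mul, ← map_mul, mem_centralizer_singleton_iff.1 z.2]
  obtain ⟨k, hk⟩ := h1 ⟨_, hmem⟩
  refine ⟨k, Subtype.ext (e.symm.injective ?_)⟩
  simpa using congrArg Subtype.val hk

/-- An involution acts on a normal subgroup of odd order by inversion. -/
theorem inverts_of_odd_normal (hC : CIT X) (N : Subgroup X) [N.Normal] (hN : Odd (Nat.card N)) {t : X}
    (ht : orderOf t = 2) {n : X} (hn : n ∈ N) : t * n * t⁻¹ = n⁻¹ := by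
  let φ : N →* N := (MulAut.conjNormal t).toMonoidHom
  have hφ : MonoidHom.FixedPointFree φ := fun z hz => by
    have h1 : t * (z : X) * t⁻¹ = z := congrArg Subtype.val hz
    refine Subtype.ext (CfsgLib.CIT.eq_one_of_odd_of_pGroup (hC t ht)
      (mem_centralizer_singleton_iff.2 (mul_inv_eq_iff_eq_mul.1 h1).symm) ?_)
    exact Odd.of_dvd_nat hN (by rw [orderOf_coe]; exact orderOf_dvd_natCard z)
  have h2 : Function.Involutive φ := fun z => Subtype.ext (by
    show t * (t * (z : X) * t⁻¹) * t⁻¹ = z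
    have h := pow_orderOf_eq_one t
    rw [ht, pow_two] at h
    have h' : t⁻¹ * t⁻¹ = 1 := by rw [← mul_inv_rev, h, inv_one]
    calc t * (t * (z : X) * t⁻¹) * t⁻¹ = (t * t) * z * (t⁻¹ * t⁻¹) := by group
      _ = z := by rw [h, h', one_mul, mul_one])
  exact congrArg Subtype.val (congrFun (hφ.coe_eq_inv_of_involutive h2) ⟨n, hn⟩)

/-- A CIT group with no two commuting involutions is solvable. -/
theorem solvable_of_no_four (hC : CIT X) (h2 : 2 ∣ Nat.card X)
    (h : ∀ a b : X, orderOf a = 2 → orderOf b = 2 → a * b = b * a → a = b) : Group.IsSolvable X := by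
  classical
  haveI : Fact (Nat.Prime 2) := ⟨Nat.prime_two⟩
  obtain ⟨P⟩ : Nonempty (Sylow 2 X) := inferInstance
  haveI : Nontrivial (P : Subgroup X) := (nontrivial_iff_ne_bot _).2 (P.ne_bot_of_dvd_card h2)
  haveI := P.2.center_nontrivial
  obtain ⟨n, hn, hcn⟩ := ((IsPGroup.nontrivial_iff_card (P.2.to_subgroup (center (P : Subgroup X)))).1
    inferInstance)
  obtain ⟨u0, hu0⟩ := exists_prime_orderOf_dvd_card' 2 (hcn ▸ dvd_pow_self 2 hn.ne' :
    2 ∣ Nat.card (center (P : Subgroup X)))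
  set u : X := ((u0 : (P : Subgroup X)) : X) with hudef
  have hu : orderOf u = 2 := by rw [hudef, orderOf_coe, orderOf_coe, hu0]
  have huP : u ∈ (P : Subgroup X) := (u0 : (P : Subgroup X)).2
  obtain ⟨N, hNn, hNodd, hN⟩ := Cfsg.Agent.S0215.result P u hu huP (fun g hg => by
    have ho : orderOf (g * u * g⁻¹) = 2 := ((MulAut.conj g).orderOf_eq u).trans hu
    refine h _ u ho hu ?_
    exact congrArg Subtype.val (mem_center_iff.1 u0.2 ⟨g * u * g⁻¹, hg⟩))
  haveI := hNn
  -- the quotient is a 2-group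
  have hQ : IsPGroup 2 (X ⧸ N) := by
    intro z
    obtain ⟨x, rfl⟩ := QuotientGroup.mk_surjective z
    obtain ⟨e, m, hm, he⟩ := Nat.exists_eq_two_pow_mul_odd (orderOf_pos x).ne'
    refine ⟨e, ?_⟩
    set y := x ^ 2 ^ e with hy
    have hyo : Odd (orderOf y) := by
      rw [hy, orderOf_pow_of_dvd (pow_ne_zero _ two_ne_zero) (he ▸ dvd_mul_right _ _), he,
        Nat.mul_div_cancel_left _ (pow_pos two_pos e)]
      exact hm
    -- conjugation by `u` on the coset of `y`
    let σ : N → N := fun k => ⟨u * (k : X) * u⁻¹ * (u * y * u⁻¹ * y⁻¹),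
      N.mul_mem (hNn.conj_mem _ k.2 u) (hN y)⟩
    have huu : u * u = 1 := by
      have := pow_orderOf_eq_one u
      rwa [hu, pow_two] at this
    have hσ : Function.Involutive σ := fun k => Subtype.ext (by
      have h' : u⁻¹ * u⁻¹ = 1 := by rw [← mul_inv_rev, huu, inv_one]
      show u * (u * (k : X) * u⁻¹ * (u * y * u⁻¹ * y⁻¹)) * u⁻¹ * (u * y * u⁻¹ * y⁻¹) = k
      calc u * (u * (k : X) * u⁻¹ * (u * y * u⁻¹ * y⁻¹)) * u⁻¹ * (u * y * u⁻¹ * y⁻¹)
          = (u * u) * k * y * (u⁻¹ * u⁻¹) * y⁻¹ := by group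
        _ = k := by rw [huu, h', one_mul, mul_one, mul_inv_cancel_right])
    haveI := Fintype.ofFinite N
    obtain ⟨k, hk⟩ := Equiv.Perm.exists_fixed_point_of_prime (p := 2) (n := 1) (σ := hσ.toPerm σ)
      (by rw [← Nat.card_eq_fintype_card]; exact hNodd.not_two_dvd_nat)
      (by rw [pow_one, pow_two]; exact Equiv.ext hσ)
    have hk' : u * (k : X) * u⁻¹ * (u * y * u⁻¹ * y⁻¹) = k := congrArg Subtype.val hk
    have hky : Commute u ((k : X) * y) := by
      show u * ((k : X) * y) = (k : X) * y * u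
      calc u * ((k : X) * y) = u * (k : X) * u⁻¹ * (u * y * u⁻¹ * y⁻¹) * y * u := by group
        _ = (k : X) * y * u := by rw [hk']
    obtain ⟨j, hj⟩ := hC u hu ⟨_, mem_centralizer_singleton_iff.2 hky.symm⟩
    have hj' : ((k : X) * y) ^ 2 ^ j = 1 := congrArg Subtype.val hj
    have h1 := congrArg (QuotientGroup.mk' N) hj'
    rw [map_pow, map_mul, map_one, QuotientGroup.mk'_apply, (QuotientGroup.eq_one_iff _).2 k.2, one_mul] at h1
    have h3 : orderOf (QuotientGroup.mk' N y) = 1 := by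
      refine Nat.eq_one_of_dvd_coprimes (a := 2 ^ j) ?_ (orderOf_dvd_of_pow_eq_one h1) (orderOf_map_dvd _ y)
      exact (Nat.coprime_two_left.2 hyo).pow_left j
    rw [← QuotientGroup.mk_pow]
    exact orderOf_eq_one_iff.1 h3
  haveI : IsMulCommutative N := by
    refine ⟨⟨fun a b => ?_⟩⟩
    have ha := inverts_of_odd_normal hC N hNodd hu a.2
    have hb := inverts_of_odd_normal hC N hNodd hu b.2
    have hab := inverts_of_odd_normal hC N hNodd hu (a * b).2
    refine Subtype.ext (inv_injective ?_)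
    show ((a : X) * b)⁻¹ = ((b : X) * a)⁻¹
    rw [mul_inv_rev (b : X) a, ← ha, ← hb]
    rw [Subgroup.coe_mul] at hab
    rw [← hab]
    group
  haveI : Group.IsSolvable N := isSolvable_of_comm fun a b => mul_comm' a b
  haveI := hQ.isNilpotent
  haveI : Group.IsSolvable (X ⧸ N) := inferInstance
  exact solvable_of_ker_le_range N.subtype (QuotientGroup.mk' N) (by rw [QuotientGroup.ker_mk', range_subtype])

/-- A CIT group with a normal Sylow 2-subgroup is solvable. -/
theorem solvable_of_sylow_normal (hC : CIT X) (Q : Subgroup X) [Q.Normal] (hQ : IsPGroup 2 Q) (hQ1 : Q ≠ ⊥)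
    (hodd : ¬ 2 ∣ Q.index) : Group.IsSolvable X := by
  haveI : Fact (Nat.Prime 2) := ⟨Nat.prime_two⟩
  obtain ⟨k, hk⟩ := IsPGroup.iff_card.1 hQ
  obtain ⟨H, hH⟩ := Subgroup.exists_right_complement'_of_coprime (N := Q)
    (hk ▸ (Nat.coprime_two_left.2 (Nat.not_even_iff_odd.1 fun he => hodd (even_iff_two_dvd.1 he))).pow_left k)
  have hHc : Nat.card H = Q.index := by
    have h1 := hH.card_mul
    rw [← Q.card_mul_index] at h1
    exact Nat.eq_of_mul_eq_mul_left Nat.card_pos h1
  haveI : IsZGroup H := CfsgLib.Core.FPF.isZGroup_of_odd (K := Q) (CfsgLib.Core.le_normalizer_of_normal H Q)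
    (fun a ha ha1 => by
      rw [eq_bot_iff_forall]
      rintro r ⟨hr, hrc⟩
      have hao : Odd (orderOf a) := Nat.not_even_iff_odd.1 fun he => hodd (by
        rw [← hHc]
        exact (even_iff_two_dvd.1 he).trans (H.orderOf_dvd_natCard ha))
      exact hC.eq_one_of_mem hao ha1 hQ hr (mem_centralizer_singleton_iff.1 hrc).symm)
    hQ1 (hHc ▸ hodd)
  haveI := hQ.isNilpotent
  haveI : Group.IsSolvable (X ⧸ Q) := by
    obtain ⟨e⟩ : Nonempty (X ⧸ Q ≃* H) := ⟨hH.symm.QuotientMulEquiv⟩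
    exact solvable_of_surjective (f := e.symm.toMonoidHom) e.symm.surjective
  exact solvable_of_ker_le_range Q.subtype (QuotientGroup.mk' Q) (by rw [QuotientGroup.ker_mk', range_subtype])

/-- The simple normal subgroup. -/
theorem exists_simple_normal (hC : CIT X) (h2 : 2 ∣ Nat.card X) (hns : ¬ Group.IsSolvable X)
    (hQ : Cfsg.pCore 2 X = ⊥) :
    ∃ T : Subgroup X, T.Normal ∧ IsSimpleGroup T ∧ ¬ IsMulCommutative T ∧ 2 ∣ Nat.card T := by
  haveI : Fact (Nat.Prime 2) := ⟨Nat.prime_two⟩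
  haveI : Nontrivial X := by
    rcases subsingleton_or_nontrivial X with h | h
    · rw [Nat.card_of_subsingleton (1 : X)] at h2
      norm_num at h2
    · exact h
  obtain ⟨T, hTn, hT1, hTmin⟩ := CfsgLib.Components.exists_minimal_normal (G := X)
  haveI := hTn
  obtain ⟨a, b, ha, hb, hab, hne⟩ : ∃ a b : X, orderOf a = 2 ∧ orderOf b = 2 ∧ a * b = b * a ∧ a ≠ b := by
    by_contra h
    push Not at h
    exact hns (solvable_of_no_four hC h2 h)
  have heven : ∀ M : Subgroup X, M.Normal → M ≠ ⊥ → 2 ∣ Nat.card M := by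
    intro M hM hM1
    haveI := hM
    by_contra hodd
    have ho : Odd (Nat.card M) := Nat.not_even_iff_odd.1 fun he => hodd (even_iff_two_dvd.1 he)
    have hab2 : orderOf (a * b) = 2 := CfsgLib.Signalizer.orderOf_eq_two_of
      (fun e => hne (eq_of_mul_inv_eq_one (by rwa [CfsgLib.Signalizer.involution_inv hb])))
      (by
        calc a * b * (a * b) = a * (b * a) * b := by group
          _ = a * (a * b) * b := by rw [hab]
          _ = a * a * (b * b) := by group
          _ = 1 := by rw [CfsgLib.Signalizer.involution_sq ha, CfsgLib.Signalizer.involution_sq hb, one_mul])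
    refine hM1 ((eq_bot_iff_forall M).2 fun x hx => ?_)
    have h1 : a * b * x * (a * b)⁻¹ = x := by
      calc a * b * x * (a * b)⁻¹ = a * (b * x * b⁻¹) * a⁻¹ := by group
        _ = x := by rw [inverts_of_odd_normal hC M ho hb hx,
              inverts_of_odd_normal hC M ho ha (M.inv_mem hx), inv_inv]
    have h3 : x * x = 1 := by
      have h4 := inverts_of_odd_normal hC M ho hab2 hx
      rw [h1] at h4
      exact mul_eq_one_iff_eq_inv.2 h4
    exact orderOf_eq_one_iff.1 (Nat.eq_one_of_dvd_coprimes (Nat.coprime_two_left.2 ho)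
      (orderOf_dvd_of_pow_eq_one (by rw [pow_two, h3])) (M.orderOf_dvd_natCard hx))
  obtain ⟨S, iS, m, hS, hm, ⟨e⟩⟩ := CfsgLib.Perm.CharSimple.exists_iso_pi_of_minimal_normal T hT1
    (fun M hM hMT => hTmin M hM hMT)
  haveI : Nonempty (Fin m) := ⟨⟨0, hm⟩⟩
  haveI hSf : Finite S := Finite.of_surjective (fun z : T => e z ⟨0, hm⟩) fun s =>
    ⟨e.symm fun _ => s, by simp⟩
  have hTc : Nat.card T = Nat.card S ^ m := by
    rw [Nat.card_congr e.toEquiv, Nat.card_fun, Nat.card_fin]
  have hT2 : 2 ∣ Nat.card T := heven T hTn hT1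
  have hS2 : 2 ∣ Nat.card S := Nat.prime_two.dvd_of_dvd_pow (hTc ▸ hT2)
  have hSodd : ¬ IsPGroup 2 S := by
    intro hS2g
    obtain ⟨k, hk⟩ := IsPGroup.iff_card.1 hS2g
    refine hT1 (le_bot_iff.1 (hQ ▸ CfsgLib.Core.le_pCore (IsPGroup.of_card (n := k * m) ?_)))
    rw [hTc, hk, pow_mul]
  obtain ⟨u, hu⟩ := exists_prime_orderOf_dvd_card' 2 hS2
  obtain ⟨z, hzo⟩ : ∃ z : S, ∀ k : ℕ, orderOf z ≠ 2 ^ k := by
    by_contra h
    push Not at h
    exact hSodd ((IsPGroup.iff_orderOf (p := 2)).2 h)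
  obtain ⟨i, hio, hi1⟩ := CfsgLib.CIT.exists_odd_power z hzo
  have hm1 : m = 1 := by
    by_contra hne1
    let i0 : Fin m := ⟨0, hm⟩
    let i1 : Fin m := ⟨1, by omega⟩
    have h01 : i0 ≠ i1 := by simp [i0, i1]
    have hcomm : Commute (e.symm (Pi.mulSingle i1 (z ^ i) : Fin m → S)) (e.symm (Pi.mulSingle i0 u)) :=
      (Pi.mulSingle_commute (f := fun _ : Fin m => S) (Ne.symm h01) (z ^ i) u).map e.symm
    have hx : orderOf (e.symm (Pi.mulSingle i1 (z ^ i) : Fin m → S)) = orderOf (z ^ i) := by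
      rw [MulEquiv.orderOf_eq]
      exact orderOf_injective (MonoidHom.mulSingle (fun _ : Fin m => S) i1) (Pi.mulSingle_injective (M := fun _ : Fin m => S) i1) _
    have hy : orderOf (e.symm (Pi.mulSingle i0 u : Fin m → S)) = 2 := by
      rw [MulEquiv.orderOf_eq]
      exact (orderOf_injective (MonoidHom.mulSingle (fun _ : Fin m => S) i0) (Pi.mulSingle_injective (M := fun _ : Fin m => S) i0) _).trans hu
    have h1 := (hC.subgroup T).eq_one (x := e.symm (Pi.mulSingle i1 (z ^ i) : Fin m → S)) (hx ▸ hio)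
      (fun h => hi1 (orderOf_eq_one_iff.1 (by rw [← hx, h, orderOf_one]))) (k := 1) (by rw [hy, pow_one])
      hcomm.eq
    rw [h1, orderOf_one] at hy
    norm_num at hy
  subst hm1
  set f : T ≃* S := e.trans (MulEquiv.piUnique fun _ : Fin 1 => S)
  refine ⟨T, hTn, f.isSimpleGroup_congr.2 hS, fun hc => ?_, hT2⟩
  haveI := hc
  have hp : (Nat.card T).Prime := by
    letI : CommGroup T := { (inferInstance : Group T) with mul_comm := mul_comm' }
    haveI : IsSimpleGroup T := f.isSimpleGroup_congr.2 hS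
    exact IsSimpleGroup.prime_card
  rw [(Nat.prime_dvd_prime_iff_eq Nat.prime_two hp).1 hT2 |>.symm] at hTc
  exact hSodd (IsPGroup.of_card (n := 1) (by rw [pow_one] at hTc ⊢; exact hTc.symm))

/-- A group of odd prime power order normalising a 2-subgroup of a CIT group acts semiregularly. -/
theorem semireg_dvd (hC : CIT X) {P H : Subgroup X} {q : ℕ} [Fact q.Prime] (hq : q ≠ 2)
    (hP : IsPGroup 2 P) (hH : IsPGroup q H) (hHN : H ≤ normalizer (P : Set X)) :
    Nat.card H ∣ Nat.card P - 1 := by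
  let _ : MulAction H {x : P // x ≠ 1} :=
    { smul := fun h x => ⟨⟨(h : X) * (x.1 : X) * (h : X)⁻¹, (mem_normalizer_iff.1 (hHN h.2) _).1 x.1.2⟩,
        fun e => x.2 (Subtype.ext (by
          have e' : (h : X) * (x.1 : X) * (h : X)⁻¹ = 1 := congrArg Subtype.val e
          exact conj_eq_one_iff.1 e'))⟩
      one_smul := fun x => Subtype.ext (Subtype.ext (by
        show ((1 : H) : X) * _ * _ = _
        simp))
      mul_smul := fun a b x => Subtype.ext (Subtype.ext (by
        show ((a * b : H) : X) * _ * _ = (a : X) * ((b : X) * _ * (b : X)⁻¹) * (a : X)⁻¹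
        simp [mul_assoc])) }
  have hst : ∀ x : {x : P // x ≠ 1}, MulAction.stabilizer H x = ⊥ := by
    intro x
    rw [eq_bot_iff]
    intro h hh
    rw [mem_bot]
    by_contra hne
    have e : (h : X) * (x.1 : X) * (h : X)⁻¹ = (x.1 : X) :=
      congrArg (fun y : {x : P // x ≠ 1} => (y.1 : X)) (MulAction.mem_stabilizer_iff.1 hh)
    obtain ⟨i, hi⟩ := hH h
    refine x.2 (Subtype.ext (hC.eq_one_of_mem (x := (h : X)) ?_ (fun h1 => hne (Subtype.ext h1)) hP x.1.2
      (mul_inv_eq_iff_eq_mul.1 e)))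
    exact Odd.of_dvd_nat ((Fact.out : q.Prime).odd_of_ne_two hq).pow
      (orderOf_dvd_of_pow_eq_one (show (h : X) ^ q ^ i = 1 by simpa using congrArg Subtype.val hi))
  classical
  haveI : Fintype (Quotient (MulAction.orbitRel H {x : P // x ≠ 1})) := Fintype.ofFinite _
  haveI := Fintype.ofFinite P
  have hc := Nat.card_congr (MulAction.selfEquivSigmaOrbitsQuotientStabilizer H {x : P // x ≠ 1})
  rw [Nat.card_sigma, Finset.sum_congr rfl (g := fun _ => Nat.card H) (fun ω _ => by
    change (MulAction.stabilizer H _).index = _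
    rw [hst, index_bot]), Finset.sum_const, smul_eq_mul] at hc
  have hP1 : Nat.card {x : P // x ≠ 1} = Nat.card P - 1 := by
    rw [Nat.card_eq_fintype_card, Nat.card_eq_fintype_card]
    simp [Fintype.card_subtype_compl]
  exact ⟨_, (hP1 ▸ hc).trans (mul_comm _ _)⟩

/-- A Sylow 2-subgroup of a normal subgroup. -/
theorem exists_sylow_two (T : Subgroup X) :
    ∃ S : Subgroup X, S ≤ T ∧ IsPGroup 2 S ∧ Nat.card S = 2 ^ (Nat.card T).factorization 2 ∧
      ¬ 2 ∣ S.relIndex T := by
  haveI : Fact (Nat.Prime 2) := ⟨Nat.prime_two⟩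
  obtain ⟨P⟩ : Nonempty (Sylow 2 T) := inferInstance
  refine ⟨(P : Subgroup T).map T.subtype, map_subtype_le _, P.2.map _, ?_, ?_⟩
  · rw [card_map_of_injective T.subtype_injective, P.card_eq_multiplicity]
  · rw [relIndex, subgroupOf, comap_map_eq_self_of_injective T.subtype_injective]
    exact P.not_dvd_index

/-- The odd part of the index of a normal subgroup is bounded by its Sylow 2-normaliser. -/
theorem pow_dvd_sub_one (hC : CIT X) (T : Subgroup X) [T.Normal] {S : Subgroup X} (hST : S ≤ T)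
    (hS : IsPGroup 2 S) (hidx : ¬ 2 ∣ S.relIndex T) {r n : ℕ} (hr : r.Prime) (hr2 : r ≠ 2)
    (hd : r ^ n ∣ T.index * Nat.card ↥(normalizer (S : Set X) ⊓ T)) : r ^ n ∣ Nat.card S - 1 := by
  haveI : Fact (Nat.Prime 2) := ⟨Nat.prime_two⟩
  haveI := Fact.mk hr
  rw [← (CfsgLib.Recog.SmallOrders.frattini_card T hST hS hidx).1] at hd
  obtain ⟨H, hH⟩ := Sylow.exists_subgroup_card_pow_prime r hd
  have := semireg_dvd hC hr2 hS (H := H.map (normalizer (S : Set X)).subtype)
    ((IsPGroup.of_card hH).map _) (map_subtype_le H)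
  rwa [card_map_of_injective (subtype_injective _), hH] at this

/-- An element of order `r`, with `2` of order `e` modulo `r`, normalising a group of order `2 ^ e`
makes it elementary abelian. -/
theorem elementary_of_prim (hC : CIT X) {S : Subgroup X} (hS : IsPGroup 2 S) {e r : ℕ}
    (hSc : Nat.card S = 2 ^ e) (hr : r.Prime) (hr2 : r ≠ 2) (hord : ∀ j, 0 < j → j < e → ¬ r ∣ 2 ^ j - 1)
    (hd : r ∣ Nat.card (normalizer (S : Set X))) : ∀ x ∈ S, x * x = 1 := by
  rcases Nat.eq_zero_or_pos e with rfl | he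
  · intro x hx
    rw [pow_zero, card_eq_one] at hSc
    rw [hSc, mem_bot] at hx
    rw [hx, mul_one]
  haveI : Fact (Nat.Prime 2) := ⟨Nat.prime_two⟩
  haveI := Fact.mk hr
  obtain ⟨y0, hy0⟩ := exists_prime_orderOf_dvd_card' r hd
  set y : X := (y0 : X)
  have hy : orderOf y = r := by rw [orderOf_coe, hy0]
  have hall : ∀ W : Subgroup X, W ≤ S → W ≠ ⊥ →
      (∀ g ∈ normalizer (S : Set X), ∀ w ∈ W, g * w * g⁻¹ ∈ W) → W = S := by
    intro W hW hW1 hinv
    obtain ⟨j, hj, hWc⟩ := (Nat.dvd_prime_pow Nat.prime_two).1 (hSc ▸ card_dvd_of_le hW)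
    have hyW : zpowers y ≤ normalizer (W : Set X) := by
      refine (zpowers_le.2 y0.2).trans fun g hg => mem_normalizer_iff.2 fun w => ⟨hinv g hg w, fun h => ?_⟩
      simpa [mul_assoc] using hinv g⁻¹ (inv_mem hg) _ h
    have h := semireg_dvd hC hr2 (hS.to_le hW) (H := zpowers y)
      (IsPGroup.of_card (n := 1) (by rw [Nat.card_zpowers, hy, pow_one])) hyW
    rw [Nat.card_zpowers, hy, hWc] at h
    refine eq_of_le_of_card_ge hW ?_
    rw [hWc, hSc]
    refine Nat.pow_le_pow_right two_pos (not_lt.1 fun hlt => hord j (Nat.pos_of_ne_zero fun h0 => hW1 ?_) hlt h)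
    rw [← card_eq_one, hWc, h0, pow_zero]
  haveI : Nontrivial S := by
    rw [nontrivial_iff_ne_bot, ne_eq, ← card_eq_one, hSc]
    exact (Nat.one_lt_two_pow he.ne').ne'
  haveI := hS.center_nontrivial
  have hab : ∀ a ∈ S, ∀ b ∈ S, a * b = b * a := by
    have hZ : (center S).map S.subtype = S := hall _ (map_subtype_le _)
      (fun h => (nontrivial_iff_ne_bot (center S)).1 inferInstance
        ((map_eq_bot_iff_of_injective _ S.subtype_injective).1 h))
      (by
        rintro g hg w ⟨w', hw', rfl⟩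
        refine ⟨⟨g * (w' : X) * g⁻¹, (mem_normalizer_iff.1 hg _).1 w'.2⟩, mem_center_iff.2 fun s => ?_, rfl⟩
        have hs : g⁻¹ * (s : X) * g ∈ S := (mem_normalizer_iff''.1 hg _).1 s.2
        have hc : g⁻¹ * (s : X) * g * w' = w' * (g⁻¹ * s * g) :=
          congrArg Subtype.val (mem_center_iff.1 hw' ⟨_, hs⟩)
        refine Subtype.ext ?_
        show (s : X) * (g * w' * g⁻¹) = g * w' * g⁻¹ * s
        calc (s : X) * (g * w' * g⁻¹) = g * (g⁻¹ * s * g * w') * g⁻¹ := by group
          _ = g * ((w' : X) * (g⁻¹ * s * g)) * g⁻¹ := by rw [hc]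
          _ = g * w' * g⁻¹ * s := by group)
    intro a ha b hb
    obtain ⟨b', hb', rfl⟩ := hZ ▸ hb
    exact congrArg Subtype.val (mem_center_iff.1 hb' ⟨a, ha⟩)
  let W : Subgroup X :=
    { carrier := {x | x ∈ S ∧ x * x = 1}
      one_mem' := ⟨one_mem _, mul_one _⟩
      mul_mem' := fun {a b} ha hb => ⟨mul_mem ha.1 hb.1, by
        calc a * b * (a * b) = a * (b * a) * b := by group
          _ = a * (a * b) * b := by rw [hab b hb.1 a ha.1]
          _ = a * a * (b * b) := by group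
          _ = 1 := by rw [ha.2, hb.2, mul_one]⟩
      inv_mem' := fun {a} ha => ⟨inv_mem ha.1, by rw [← mul_inv_rev, ha.2, inv_one]⟩ }
  have hW : W = S := by
    refine hall W (fun x hx => hx.1) (fun h => ?_) fun g hg w hw => ⟨(mem_normalizer_iff.1 hg _).1 hw.1, ?_⟩
    · obtain ⟨t, ht⟩ := exists_prime_orderOf_dvd_card' 2 (hSc ▸ dvd_pow_self 2 he.ne' : 2 ∣ Nat.card S)
      have ht' : orderOf (t : X) = 2 := by rw [orderOf_coe, ht]
      exact CfsgLib.Signalizer.involution_ne_one ht'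
        (mem_bot.1 (h ▸ (⟨t.2, CfsgLib.Signalizer.involution_sq ht'⟩ : (t : X) ∈ W)))
    · calc g * w * g⁻¹ * (g * w * g⁻¹) = g * (w * w) * g⁻¹ := by group
        _ = 1 := by rw [hw.2, mul_one, mul_inv_cancel]
  intro x hx
  exact (hW ▸ hx : x ∈ W).2

/-- The order of a simple CIT group with elementary abelian Sylow 2-subgroups, and of their normalisers. -/
theorem elementary_count {T : Type u} [Group T] [Finite T] [IsSimpleGroup T] (hna : ¬ IsMulCommutative T)
    (hC : CIT T) {S : Subgroup T} (hS : IsPGroup 2 S) (hidx : ¬ 2 ∣ S.index) {e : ℕ} (he : 2 ≤ e)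
    (hSc : Nat.card S = 2 ^ e) (helem : ∀ x ∈ S, x * x = 1) :
    Nat.card T = (2 ^ e + 1) * (2 ^ e * (2 ^ e - 1)) ∧
      Nat.card (normalizer (S : Set T)) = 2 ^ e * (2 ^ e - 1) := by
  classical
  haveI : Fact (Nat.Prime 2) := ⟨Nat.prime_two⟩
  set S' : Sylow 2 T := hS.toSylow hidx
  have hSyl : CfsgLib.CIT.IsSyl S ⊤ :=
    ⟨le_top, hS, fun P hSP _ hP => S'.3 hP hSP⟩
  have habel : ∀ {V : Subgroup T}, CfsgLib.CIT.IsSyl V ⊤ → ∀ a ∈ V, ∀ b ∈ V, a * b = b * a := by
    intro V hV a ha b hb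
    obtain ⟨g, -, rfl⟩ := hSyl.exists_conj hV
    rw [CfsgLib.CIT.mem_cj] at ha hb
    have h1 : ∀ z ∈ S, z⁻¹ = z := fun z hz => inv_eq_of_mul_eq_one_right (helem z hz)
    have h2 : g⁻¹ * a * g * (g⁻¹ * b * g) = g⁻¹ * b * g * (g⁻¹ * a * g) := by
      rw [← h1 _ (mul_mem ha hb), mul_inv_rev, h1 _ ha, h1 _ hb]
    calc a * b = g * (g⁻¹ * a * g * (g⁻¹ * b * g)) * g⁻¹ := by group
      _ = g * (g⁻¹ * b * g * (g⁻¹ * a * g)) * g⁻¹ := by rw [h2]
      _ = b * a := by group
  have hTI : CfsgLib.CIT.TISylow T := by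
    intro V V' hV hV' hne
    rw [eq_bot_iff_forall]
    rintro t ⟨ht, ht'⟩
    by_contra ht1
    obtain ⟨k, hk⟩ := CfsgLib.CIT.orderOf_two_pow_of_mem hV.2.1 ht
    have hp := hC.centralizer_pGroup hk ht1
    have h1 : V ≤ centralizer ({t} : Set T) := fun v hv => mem_centralizer_singleton_iff.2 (habel hV v hv t ht)
    have h2 : V' ≤ centralizer ({t} : Set T) := fun v hv => mem_centralizer_singleton_iff.2 (habel hV' v hv t ht')
    exact hne ((hV.2.2 _ h1 le_top hp).symm.trans (hV'.2.2 _ h2 le_top hp))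
  have hb : CfsgLib.CIT.Branching (⊤ : Subgroup T) := by
    intro U hU hn
    have hUn : U.Normal := normalizer_eq_top_iff.1 (top_le_iff.1 hn)
    have h0 := CfsgLib.CIT.simple_noCore hna U hUn hU.2.1
    have h1 := hU.card_eq hSyl
    rw [h0, card_bot, hSc] at h1
    exact (Nat.one_lt_two_pow (by omega : e ≠ 0)).ne h1
  have hE := hTI.embedded hC hb hSyl
  have hinv : hE.invCount = 2 ^ e - 1 := by
    have h2e : Nat.card {x : S // x ≠ 1} = Nat.card S - 1 := by
      haveI := Fintype.ofFinite S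
      rw [Nat.card_eq_fintype_card, Nat.card_eq_fintype_card]
      simp [Fintype.card_subtype_compl]
    rw [← hSc, ← h2e]
    refine Nat.card_congr
      { toFun := fun t => ⟨⟨t.1, hE.involution_mem t.1 t.2.2 t.2.1⟩, fun h => ?_⟩
        invFun := fun x => ⟨x.1, ⟨?_, hE.hle x.1.2⟩⟩
        left_inv := fun t => rfl
        right_inv := fun x => rfl }
    · exact CfsgLib.Signalizer.involution_ne_one t.2.1 (congrArg Subtype.val h)
    · exact CfsgLib.Signalizer.orderOf_eq_two_of (fun h => x.2 (Subtype.ext h)) (helem _ x.1.2)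
  have h4 : (4 : ℕ) ≤ 2 ^ e := le_trans (by norm_num) (Nat.pow_le_pow_right two_pos he)
  have hi : 2 ≤ hE.invCount := by rw [hinv]; omega
  have hT := hE.card_group hi
  rw [hSc, hinv] at hT
  refine ⟨hT, ?_⟩
  have h5 := (normalizer (S : Set T)).card_eq_card_quotient_mul_card_subgroup
  rw [hE.card_points hi, hSc, hT] at h5
  exact (Nat.eq_of_mul_eq_mul_left (by omega) h5).symm

/-- A 2-group normalising a subgroup of odd prime order embeds in its automorphism group. -/
theorem two_dvd_pred (hC : CIT X) {P H : Subgroup X} {p : ℕ} [Fact p.Prime] (hp : p ≠ 2) (hP : Nat.card P = p)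
    (hH : IsPGroup 2 H) (hHN : H ≤ normalizer (P : Set X)) : Nat.card H ∣ p - 1 := by
  haveI : IsCyclic P := isCyclic_of_prime_card hP
  let f : H →* MulAut P := (P.normalizerMonoidHom).comp (inclusion hHN)
  have hf : Function.Injective f := by
    rw [← MonoidHom.ker_eq_bot_iff, eq_bot_iff_forall]
    intro h hh
    obtain ⟨x, hx⟩ := exists_prime_orderOf_dvd_card' (G := P) p hP.symm.dvd
    have hxo : orderOf (x : X) = p := by rw [orderOf_coe, hx]
    have hfix : (h : X) * (x : X) * (h : X)⁻¹ = x :=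
      congrArg Subtype.val (DFunLike.congr_fun (MonoidHom.mem_ker.1 hh) x)
    exact Subtype.ext (hC.eq_one_of_mem (x := (x : X)) (hxo ▸ (Fact.out : p.Prime).odd_of_ne_two hp)
      (fun h1 => by
        rw [h1, orderOf_one] at hxo
        exact (Fact.out : p.Prime).ne_one hxo.symm) hH h.2 (mul_inv_eq_iff_eq_mul.1 hfix).symm)
  have := Subgroup.card_dvd_of_injective f hf
  rwa [IsCyclic.card_mulAut, hP, Nat.totient_prime Fact.out] at this

end CfsgLib.Recog.CITGraph
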