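import Cfsg.Agent.Lib.Recog.CITPrimeGraph.PSLTwoEven

/-!
Owner: helper3. A group with the prime graph of `PSL(2, 2^m)`, `m ≥ 4`, is an extension of a 2-group by it.
-/

set_option autoImplicit false
set_option linter.all false

namespace CfsgLib.Recog.CITGraph

open Subgroup
open CfsgLib.CIT (CIT)
open scoped MatrixGroups

universe u v

variable {F : Type v} [Field F] [Fintype F] {m : ℕ}

theorem charP_two (hm : 0 < m) (hF : Fintype.card F = 2 ^ m) : CharP F 2 :=
  charP_of_card_eq_prime_pow (R := F) (p := 2) (f := m) hF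

theorem sl_congr {F' : Type*} [Field F'] (e : F ≃+* F') : Nonempty (SL(2, F) ≃* SL(2, F')) :=
  ⟨{ toFun := Matrix.SpecialLinearGroup.map e.toRingHom
     invFun := Matrix.SpecialLinearGroup.map e.symm.toRingHom
     left_inv := fun A => by ext i j; simp
     right_inv := fun A => by ext i j; simp
     map_mul' := map_mul _ }⟩

/-- Element orders of `SL(2, 2^m)`. -/
theorem orders_sl (hm : 2 ≤ m) (hF : Fintype.card F = 2 ^ m) :
    Set.range (orderOf : Matrix.ProjectiveSpecialLinearGroup (Fin 2) F → ℕ) =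
      {n | n = 2 ∨ n ∣ 2 ^ m - 1 ∨ n ∣ 2 ^ m + 1} := by
  haveI := charP_two (by omega) hF
  haveI : Fact (Nat.Prime 2) := ⟨Nat.prime_two⟩
  have h4 : 4 ≤ 2 ^ m := le_trans (by norm_num) (Nat.pow_le_pow_right two_pos hm)
  have h := CfsgLib.Recog.PSLTwoOrders.range_orderOf (F := F) 2 (hF ▸ h4)
  have hev : 2 ∣ 2 ^ m := dvd_pow_self 2 (by omega)
  have hg : Nat.gcd 2 (2 ^ m - 1) = 1 :=
    (Nat.coprime_two_left.2 (Nat.odd_iff.2 (by omega)))
  rw [hF, hg, Nat.div_one, Nat.div_one] at h
  exact h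

theorem card_sl (hm : 0 < m) (hF : Fintype.card F = 2 ^ m) :
    Nat.card (Matrix.ProjectiveSpecialLinearGroup (Fin 2) F) = 2 ^ m * ((2 ^ m) ^ 2 - 1) := by
  have h := CfsgLib.Classical.Dickson.gcd_mul_card_psl (F := F) hF
  have hev : 2 ∣ 2 ^ m := dvd_pow_self 2 hm.ne'
  have hp := Nat.two_pow_pos m
  rwa [(Nat.coprime_two_left.2 (Nat.odd_iff.2 (by omega))).gcd_eq_one, one_mul] at h

variable {G : Type u} [Group G] [Finite G]

/-- The data carried by the quotient by the 2-core. -/
theorem exists_data (hm : 4 ≤ m) (hF : Fintype.card F = 2 ^ m)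
    (hpr : ∀ r : ℕ, r.Prime → (r ∣ Nat.card (Matrix.ProjectiveSpecialLinearGroup (Fin 2) F) ↔ r ∣ Nat.card G))
    (hadj : ∀ r s : ℕ, r.Prime → s.Prime → r ≠ s →
      ((∃ x : Matrix.ProjectiveSpecialLinearGroup (Fin 2) F, orderOf x = r * s) ↔ ∃ y : G, orderOf y = r * s)) :
    ∃ T : Subgroup (G ⧸ Cfsg.pCore 2 G), Data m (G ⧸ Cfsg.pCore 2 G) T := by
  haveI : Fact (Nat.Prime 2) := ⟨Nat.prime_two⟩
  have h16 : 16 ≤ 2 ^ m := le_trans (by norm_num) (Nat.pow_le_pow_right two_pos hm)
  have hev : 2 ∣ 2 ^ m := dvd_pow_self 2 (by omega)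
  have hord := orders_sl (by omega) hF
  have hcard := card_sl (by omega) hF
  have hcop : ∀ {r : ℕ}, r.Prime → r ∣ 2 ^ m - 1 → r ∣ 2 ^ m + 1 → False := by
    intro r hr h1 h2
    have h := Nat.dvd_sub h2 h1
    rw [show 2 ^ m + 1 - (2 ^ m - 1) = 2 by omega] at h
    obtain rfl := (Nat.prime_dvd_prime_iff_eq hr Nat.prime_two).1 h
    omega
  -- no elements of order `2r`
  have hC : CIT G := cit_of_no_two_mul fun r hr hr2 hx => by
    obtain ⟨x, hx⟩ := (hadj 2 r Nat.prime_two hr (Ne.symm hr2)).2 hx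
    have hmem : 2 * r ∈ Set.range (orderOf : Matrix.ProjectiveSpecialLinearGroup (Fin 2) F → ℕ) := ⟨x, hx⟩
    rw [hord] at hmem
    rcases hmem with h | h | h
    · have := hr.two_le
      omega
    · have := (dvd_mul_right 2 r).trans h
      omega
    · have := (dvd_mul_right 2 r).trans h
      omega
  -- three primes without common elements
  obtain ⟨r, hr, hrd⟩ := Nat.exists_prime_and_dvd (show 2 ^ m - 1 ≠ 1 by omega)
  obtain ⟨s, hs, hsd⟩ := Nat.exists_prime_and_dvd (show 2 ^ m + 1 ≠ 1 by omega)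
  have hr2 : r ≠ 2 := by rintro rfl; omega
  have hs2 : s ≠ 2 := by rintro rfl; omega
  have hrs : r ≠ s := by rintro rfl; exact hcop hr hrd hsd
  have hL : ∀ p : ℕ, p.Prime → p ≠ 2 →
      (p ∣ Nat.card (Matrix.ProjectiveSpecialLinearGroup (Fin 2) F) ↔ p ∣ 2 ^ (2 * m) - 1) := by
    intro p hp hp2
    rw [hcard, two_pow_two_mul]
    exact ⟨fun h => (hp.dvd_mul.1 h).resolve_left fun h' =>
      hp2 ((Nat.prime_dvd_prime_iff_eq hp Nat.prime_two).1 (hp.dvd_of_dvd_pow h')), fun h => h.mul_left _⟩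
  have h2G : 2 ∣ Nat.card G := (hpr 2 Nat.prime_two).1 (by rw [hcard]; exact hev.mul_right _)
  have hns : ¬ Group.IsSolvable G := by
    intro hsol
    have d1 : r ∣ Nat.card G := (hpr r hr).1 ((hL r hr hr2).2 (by rw [two_pow_two_mul, sq_pred]; exact hrd.mul_left _))
    have d2 : s ∣ Nat.card G := (hpr s hs).1 ((hL s hs hs2).2 (by rw [two_pow_two_mul, sq_pred]; exact hsd.mul_right _))
    haveI := hsol
    rcases CfsgLib.Recog.ThreePrimes.solvable_three_primes _ G rfl 2 r s Nat.prime_two hr hs (Ne.symm hr2)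
      (Ne.symm hs2) hrs h2G d1 d2 with ⟨x, hx⟩ | ⟨x, hx⟩ | ⟨x, hx⟩
    · exact hr2 (by
        have h := hC.eq_one (x := x ^ 2) (r := x ^ r) (k := 1) ?_ ?_ ?_ ((Commute.refl x).pow_pow 2 r).eq
        · have h2' := orderOf_dvd_of_pow_eq_one h
          rw [hx] at h2'
          exact absurd (Nat.le_of_dvd hr.pos h2') (by have := hr.pos; omega)
        · rw [orderOf_pow_of_dvd two_ne_zero (hx ▸ dvd_mul_right 2 r), hx, Nat.mul_div_cancel_left _ two_pos]
          exact hr.odd_of_ne_two hr2
        · intro h1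
          have h2' := orderOf_dvd_of_pow_eq_one h1
          rw [hx] at h2'
          have := Nat.le_of_dvd two_pos h2'
          have := hr.two_le
          omega
        · rw [orderOf_pow_of_dvd hr.ne_zero (hx ▸ dvd_mul_left r 2), hx, Nat.mul_div_cancel _ hr.pos, pow_one])
    · exact hs2 (by
        have h := hC.eq_one (x := x ^ 2) (r := x ^ s) (k := 1) ?_ ?_ ?_ ((Commute.refl x).pow_pow 2 s).eq
        · have h2' := orderOf_dvd_of_pow_eq_one h
          rw [hx] at h2'
          exact absurd (Nat.le_of_dvd hs.pos h2') (by have := hs.pos; omega)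
        · rw [orderOf_pow_of_dvd two_ne_zero (hx ▸ dvd_mul_right 2 s), hx, Nat.mul_div_cancel_left _ two_pos]
          exact hs.odd_of_ne_two hs2
        · intro h1
          have h2' := orderOf_dvd_of_pow_eq_one h1
          rw [hx] at h2'
          have := Nat.le_of_dvd two_pos h2'
          have := hs.two_le
          omega
        · rw [orderOf_pow_of_dvd hs.ne_zero (hx ▸ dvd_mul_left s 2), hx, Nat.mul_div_cancel _ hs.pos, pow_one])
    · obtain ⟨y, hy⟩ := (hadj r s hr hs hrs).2 ⟨x, hx⟩
      have hmem : r * s ∈ Set.range (orderOf : Matrix.ProjectiveSpecialLinearGroup (Fin 2) F → ℕ) := ⟨y, hy⟩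
      rw [hord] at hmem
      rcases hmem with h | h | h
      · have h1 := hr.two_le
        have h2 := hs.two_le
        nlinarith
      · exact hcop hs ((dvd_mul_left s r).trans h) hsd
      · exact hcop hr hrd ((dvd_mul_right r s).trans h)
  -- the quotient
  set Q := Cfsg.pCore 2 G with hQdef
  have hQ : IsPGroup 2 Q := CfsgLib.Core.isPGroup_pCore 2 G
  have hmulQ := Q.card_mul_index
  obtain ⟨a, ha⟩ := IsPGroup.iff_card.1 hQ
  have hdiv : ∀ p : ℕ, p.Prime → p ≠ 2 → (p ∣ Nat.card (G ⧸ Q) ↔ p ∣ Nat.card G) := by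
    intro p hp hp2
    show p ∣ Q.index ↔ _
    rw [← hmulQ, ha]
    exact ⟨fun h => h.mul_left _, fun h => (hp.dvd_mul.1 h).resolve_left fun h' =>
      hp2 ((Nat.prime_dvd_prime_iff_eq hp Nat.prime_two).1 (hp.dvd_of_dvd_pow h'))⟩
  have hns' : ¬ Group.IsSolvable (G ⧸ Q) := by
    intro hsol
    haveI := hsol
    haveI := hQ.isNilpotent
    exact hns (solvable_of_ker_le_range Q.subtype (QuotientGroup.mk' Q) (by rw [QuotientGroup.ker_mk', range_subtype]))
  have h2X : 2 ∣ Nat.card (G ⧸ Q) := by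
    by_contra hodd
    have hQ1 : Q ≠ ⊥ := fun h => hodd (by
      show 2 ∣ Q.index
      rw [h, index_bot]
      exact h2G)
    exact hns (solvable_of_sylow_normal hC Q hQ hQ1 hodd)
  obtain ⟨T, hTn, hTs, hTna, hT2⟩ := exists_simple_normal (cit_quotient_core hC) h2X hns'
    (CfsgLib.Core.pCore_quotient_pCore 2 G)
  refine ⟨T, cit_quotient_core hC, hm,
    fun p hp hp2 => (hdiv p hp hp2).trans ((hpr p hp).symm.trans (hL p hp hp2)), fun hm6 => ?_, hTs, hTna, hT2, hTn⟩
  subst hm6
  obtain ⟨y, hy⟩ := (hadj 5 13 (by norm_num) (by norm_num) (by norm_num)).1 (by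
    have hmem : 5 * 13 ∈ Set.range (orderOf : Matrix.ProjectiveSpecialLinearGroup (Fin 2) F → ℕ) := by
      rw [hord]; exact Or.inr (Or.inr (by norm_num))
    exact hmem)
  refine ⟨(y : G ⧸ Q), ?_⟩
  have h1 : y ^ orderOf (y : G ⧸ Q) ∈ Q := by
    rw [← QuotientGroup.eq_one_iff, QuotientGroup.mk_pow, pow_orderOf_eq_one]
  obtain ⟨k, hk⟩ := hQ ⟨_, h1⟩
  have h2 : y ^ (orderOf (y : G ⧸ Q) * 2 ^ k) = 1 := by
    rw [pow_mul]; exact congrArg Subtype.val hk
  refine Nat.dvd_antisymm ((orderOf_map_dvd (QuotientGroup.mk' Q) y).trans (dvd_of_eq hy)) ?_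
  exact (Nat.Coprime.pow_right k (by norm_num : Nat.Coprime 65 2)).dvd_of_dvd_mul_right
    (dvd_trans (dvd_of_eq hy.symm) (orderOf_dvd_of_pow_eq_one h2))

/-- The simple group is `PSL(2, 2^m)` and the extension is trivial. -/
theorem Data.conclusion {X : Type u} [Group X] [Finite X] {T : Subgroup X} (D : Data m X T)
    (hF : Fintype.card F = 2 ^ m) :
    Nonempty (X ≃* Matrix.ProjectiveSpecialLinearGroup (Fin 2) F) := by
  have hm := D.four
  haveI := D.normal
  haveI := D.simple
  haveI : Fact (Nat.Prime 2) := ⟨Nat.prime_two⟩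
  haveI := charP_two (by omega) hF
  -- identification
  have heq : Nonempty (T ≃* SL(2, F)) := by
    rcases CfsgLib.CIT.simple_cit D.nonab (D.cit.subgroup T) D.even with ⟨K, iK, iKt, hK, ⟨e⟩⟩ | ⟨K, iK, iKt, hK, ⟨e⟩⟩ | hS
    · have hcK := Nat.card_congr e.toEquiv
      rcases hK with hK | ⟨n, hK⟩ | ⟨hKp, k, hk⟩
      · exfalso
        have h := CfsgLib.Classical.Dickson.gcd_mul_card_psl (F := K) hK
        norm_num at h
        have hT : Nat.card T = 360 := by rw [hcK]; omega
        refine D.not_small (e := 3) (factorization_two_of (c := 45) (by rw [hT]; norm_num) ⟨22, rfl⟩) (by norm_num) ?_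
        intro r hr hd
        rw [hT, show (360 : ℕ) = 2 ^ 3 * 3 ^ 2 * 5 from rfl] at hd
        rcases hr.dvd_mul.1 hd with h | h
        · rcases hr.dvd_mul.1 h with h | h
          · have := Nat.le_of_dvd two_pos (hr.dvd_of_dvd_pow h); omega
          · have := Nat.le_of_dvd (by norm_num : 0 < 3) (hr.dvd_of_dvd_pow h); omega
        · have := Nat.le_of_dvd (by norm_num : 0 < 5) h; omega
      · have hn : 0 < n := Nat.pos_of_ne_zero fun h0 => by
          have := Fintype.one_lt_card (α := K)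
          rw [hK, h0] at this
          norm_num at this
        haveI := charP_two hn hK
        rw [card_sl hn hK] at hcK
        obtain rfl := D.eq_of_psl_two_even hcK
        obtain ⟨f⟩ := CfsgLib.Recog.AffineTwo.psl_equiv_sl K
        obtain ⟨g⟩ := sl_congr (FiniteField.ringEquivOfCardEq (K := K) (K' := F) (hK.trans hF.symm))
        exact ⟨e.trans (f.trans g)⟩
      · exfalso
        have h := CfsgLib.Classical.Dickson.gcd_mul_card_psl (F := K) (q := Fintype.card K) rfl
        set p := Fintype.card K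
        by_cases hp2 : p = 2
        · rw [hp2] at h
          norm_num at h
          have hT : Nat.card T = 6 := by rw [hcK]; omega
          refine D.not_small (e := 1) (factorization_two_of (c := 3) (by rw [hT]; norm_num) ⟨1, rfl⟩) (by norm_num) ?_
          intro r hr hd
          rw [hT] at hd
          have := Nat.le_of_dvd (by norm_num) hd
          omega
        by_cases hp3 : p = 3
        · rw [hp3] at h
          norm_num at h
          have hT : Nat.card T = 12 := by rw [hcK]; omega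
          refine D.not_small (e := 2) (factorization_two_of (c := 3) (by rw [hT]; norm_num) ⟨1, rfl⟩) (by norm_num) ?_
          intro r hr hd
          rw [hT, show (12 : ℕ) = 2 ^ 2 * 3 from rfl] at hd
          rcases hr.dvd_mul.1 hd with h | h
          · have := Nat.le_of_dvd two_pos (hr.dvd_of_dvd_pow h); omega
          · have := Nat.le_of_dvd (by norm_num : 0 < 3) h; omega
        have hodd := hKp.odd_of_ne_two hp2
        have h1 : 1 ≤ p := hKp.one_le
        have hg : Nat.gcd 2 (p - 1) = 2 := Nat.gcd_eq_left (by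
          rw [Nat.odd_iff] at hodd
          omega)
        rw [hg, ← hcK] at h
        have h5 : 5 ≤ p := by
          have := hKp.two_le
          rw [Nat.odd_iff] at hodd
          omega
        exact D.not_psl_two_prime hKp hk h h5
    · exfalso
      have hT : Nat.card T = 20160 := by rw [Nat.card_congr e.toEquiv, CfsgLib.Known.L34.card_PSL hK]
      refine D.not_small (e := 6) (factorization_two_of (c := 315) (by rw [hT]; norm_num) ⟨157, rfl⟩) le_rfl ?_
      intro r hr hd
      rw [hT, show (20160 : ℕ) = 2 ^ 6 * 3 ^ 2 * 35 from rfl] at hd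
      rcases hr.dvd_mul.1 hd with h | h
      · rcases hr.dvd_mul.1 h with h | h
        · have := Nat.le_of_dvd two_pos (hr.dvd_of_dvd_pow h); omega
        · have := Nat.le_of_dvd (by norm_num : 0 < 3) (hr.dvd_of_dvd_pow h); omega
      · rcases hr.dvd_mul.1 (show r ∣ 5 * 7 from h) with h | h
        · have := Nat.le_of_dvd (by norm_num : 0 < 5) h; omega
        · exact Nat.le_of_dvd (by norm_num : 0 < 7) h
    · obtain ⟨-, k, hk, hT⟩ := hS
      exact absurd (D.not_suzuki ⟨k, rfl⟩ (by omega) hT) id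
  obtain ⟨f⟩ := heq
  obtain ⟨g⟩ := CfsgLib.Recog.AffineTwo.psl_equiv_sl F
  have hTc : Nat.card T = 2 ^ m * ((2 ^ m) ^ 2 - 1) := by
    rw [Nat.card_congr (f.trans g.symm).toEquiv, card_sl (by omega) hF]
  have h16 : 16 ≤ 2 ^ m := le_trans (by norm_num) (Nat.pow_le_pow_right two_pos hm)
  have hev : 2 ∣ 2 ^ m := dvd_pow_self 2 (by omega)
  have hoddc : Odd ((2 ^ m) ^ 2 - 1) := by
    rw [sq_pred, Nat.odd_mul, Nat.odd_iff, Nat.odd_iff]
    omega
  have hfac : (Nat.card T).factorization 2 = m := factorization_two_of hTc hoddc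
  -- the odd part of the index
  have hodd_index : ∀ r : ℕ, r.Prime → r ≠ 2 → ¬ r ∣ T.index := by
    intro r hr hr2 hd
    obtain ⟨S, hST, hS, hSc, hidx⟩ := exists_sylow_two T
    rw [hfac] at hSc
    have helem : ∀ x ∈ S.subgroupOf T, x * x = 1 := by
      intro x hx
      rcases eq_or_ne x 1 with rfl | hx1
      · rw [mul_one]
      obtain ⟨k, hk⟩ := CfsgLib.CIT.orderOf_two_pow_of_mem (hS.comap_subtype (H := S)) hx
      have hmem : 2 ^ k ∈ Set.range (orderOf : Matrix.ProjectiveSpecialLinearGroup (Fin 2) F → ℕ) :=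
        ⟨g.symm (f x), by rw [MulEquiv.orderOf_eq, MulEquiv.orderOf_eq, hk]⟩
      rw [orders_sl (by omega) hF] at hmem
      rcases k with _ | k
      · exact absurd (orderOf_eq_one_iff.1 (by rw [hk, pow_zero])) hx1
      rcases hmem with h | h | h
      · rw [h] at hk
        rw [← pow_two, ← hk, pow_orderOf_eq_one]
      · have := (dvd_pow_self 2 k.succ_ne_zero).trans h
        omega
      · have := (dvd_pow_self 2 k.succ_ne_zero).trans h
        omega
    obtain ⟨-, hN⟩ := elementary_count D.nonab (D.cit.subgroup T) (S := S.subgroupOf T) (e := m) hS.comap_subtype hidx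
      (by omega) (by rw [Nat.card_congr (subgroupOfEquivOfLe hST).toEquiv, hSc]) helem
    have hN' : Nat.card ↥(normalizer (S : Set X) ⊓ T) = 2 ^ m * (2 ^ m - 1) := by
      rw [← hN, ← subgroupOf_normalizer_eq hST, ← inf_subgroupOf_right (normalizer (S : Set X)) T]
      exact (Nat.card_congr (subgroupOfEquivOfLe inf_le_right).toEquiv).symm
    obtain ⟨a, c, hc, hac⟩ := Nat.exists_eq_pow_mul_and_not_dvd (show 2 ^ m - 1 ≠ 0 by omega) r hr.ne_one
    have hdd : r ^ (a + 1) ∣ T.index * Nat.card ↥(normalizer (S : Set X) ⊓ T) := by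
      rw [hN', hac, pow_succ']
      exact mul_dvd_mul hd ((dvd_mul_right _ _).mul_left _)
    have := pow_dvd_sub_one D.cit T hST hS hidx hr hr2 hdd
    rw [hSc, hac, pow_succ] at this
    exact hc ((Nat.mul_dvd_mul_iff_left (pow_pos hr.pos a)).1 this)
  -- the index is odd
  have h2_index : ¬ 2 ∣ T.index := by
    intro hd
    haveI : Fact (Nat.Prime 3) := ⟨Nat.prime_three⟩
    obtain ⟨R⟩ : Nonempty (Sylow 3 SL(2, F)) := inferInstance
    haveI := CfsgLib.Classical.Two.isCyclic_sylow_odd (F := F) 2 3 (by norm_num) (by norm_num) R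
    obtain ⟨x0, hx0⟩ := IsCyclic.exists_generator (α := (R : Subgroup SL(2, F)))
    set x : SL(2, F) := (x0 : SL(2, F)) with hxdef
    have hRx : (R : Subgroup SL(2, F)) = zpowers x := by
      refine le_antisymm (fun y hy => ?_) (zpowers_le.2 x0.2)
      obtain ⟨i, hi⟩ := mem_zpowers_iff.1 (hx0 ⟨y, hy⟩)
      exact mem_zpowers_iff.2 ⟨i, congrArg Subtype.val hi⟩
    have h3 : 3 ∣ Nat.card SL(2, F) := by
      rw [← Nat.card_congr g.toEquiv, card_sl (by omega) hF, ← two_pow_two_mul]
      exact (Nat.pow_sub_one_dvd_pow_sub_one 2 (dvd_mul_right 2 m)).mul_left _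
    have hRne := R.ne_bot_of_dvd_card h3
    have hx1 : x ≠ 1 := fun h => hRne (by rw [hRx, h, zpowers_one_eq_bot])
    have hxo : Odd (orderOf x) := by
      obtain ⟨k, hk⟩ := R.2 x0
      exact Odd.of_dvd_nat ((by decide : Odd 3).pow)
        (orderOf_dvd_of_pow_eq_one (show x ^ 3 ^ k = 1 from congrArg Subtype.val hk))
    -- the element is conjugate to its inverse
    have hscal : ∀ z : SL(2, F), z ≠ 1 → ¬ CfsgLib.Classical.Trace.IsScalar z := by
      intro z hz hs
      have hc : Subgroup.center SL(2, F) = ⊥ := by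
        rw [eq_bot_iff]
        intro A hA
        obtain ⟨r, hr, hA'⟩ := Matrix.SpecialLinearGroup.mem_center_iff.mp hA
        rw [Fintype.card_fin] at hr
        have hr1 : r = 1 := by
          have : (r + 1) ^ 2 = 0 := by
            linear_combination hr + (r + 1) * (CharTwo.two_eq_zero (R := F))
          have h0 := (pow_eq_zero_iff two_ne_zero).mp this
          linear_combination h0 - (CharTwo.two_eq_zero (R := F))
        rw [Subgroup.mem_bot]
        apply Subtype.ext
        rw [← hA', hr1, map_one]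
        rfl
      refine hz (mem_bot.1 (hc ▸ mem_center_iff.2 fun y => ?_))
      obtain ⟨h01, h10, h00⟩ := hs
      refine Subtype.ext ?_
      ext i j
      fin_cases i <;> fin_cases j <;> simp [Matrix.mul_apply, Fin.sum_univ_two, h01, h10, h00] <;> ring
    obtain ⟨h, hh⟩ := CfsgLib.Classical.Trace.exists_conj (x := x) (y := x⁻¹) (hscal x hx1)
      (hscal _ (inv_ne_one.2 hx1)) (by
        simp [CfsgLib.Classical.Trace.trc, Matrix.SpecialLinearGroup.coe_inv, Matrix.adjugate_fin_two]
        ring) (fun d => by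
        obtain ⟨a, ha⟩ := (FiniteField.isSquare_of_char_two (ringChar.eq F 2) d)
        exact ⟨a, 0, by rw [ha]; ring⟩)
    -- move everything into `X`
    set ι : SL(2, F) →* X := T.subtype.comp f.symm.toMonoidHom with hι
    have hιinj : Function.Injective ι := T.subtype_injective.comp f.symm.injective
    have hιT : ∀ z, ι z ∈ T := fun z => (f.symm z).2
    set P : Subgroup X := (R : Subgroup SL(2, F)).map ι with hP
    have hPT : P ≤ T := by
      rintro _ ⟨z, -, rfl⟩
      exact hιT z
    have hidx : ¬ 3 ∣ P.relIndex T := by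
      have : P.subgroupOf T = (R : Subgroup SL(2, F)).map f.symm.toMonoidHom := by
        rw [subgroupOf, hP, hι, ← Subgroup.map_map, comap_map_eq_self_of_injective T.subtype_injective]
      rw [relIndex, this, index_map_of_bijective (f := f.symm.toMonoidHom) f.symm.bijective]
      exact R.not_dvd_index
    obtain ⟨hfr, -, -⟩ := CfsgLib.Recog.SmallOrders.frattini_card T hPT (R.2.map ι) hidx
    have hPx : P = zpowers (ι x) := by rw [hP, hRx, MonoidHom.map_zpowers]
    have hxo' : Odd (orderOf (ι x)) := by rwa [orderOf_injective ι hιinj]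
    have hx1' : ι x ≠ 1 := fun e => hx1 (hιinj (by rw [e, map_one]))
    have hconj : ι h * ι x * (ι h)⁻¹ = (ι x)⁻¹ := by rw [← map_inv ι x, ← hh, map_mul, map_mul, map_inv]
    have hhN : ι h ∈ normalizer (P : Set X) := by
      rw [mem_normalizer_iff_map_conj_eq, hPx, MonoidHom.map_zpowers]
      show zpowers (ι h * ι x * (ι h)⁻¹) = _
      rw [hconj, zpowers_inv]
    have h2N : 2 ∣ Nat.card ↥(normalizer (P : Set X) ⊓ T) := by
      have hhe : 2 ∣ orderOf (ι h) := by
        by_contra hodd
        have hc2 : ι h ^ 2 * ι x * (ι h ^ 2)⁻¹ = ι x := by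
          rw [pow_two]
          calc ι h * ι h * ι x * (ι h * ι h)⁻¹ = ι h * (ι h * ι x * (ι h)⁻¹) * (ι h)⁻¹ := by group
            _ = (ι h * ι x * (ι h)⁻¹)⁻¹ := by
              rw [hconj, inv_inv, ← conj_inv, hconj, inv_inv]
            _ = ι x := by rw [hconj, inv_inv]
        have hc1 : Commute (ι h) (ι x) := by
          obtain ⟨a, ha⟩ := Nat.not_even_iff_odd.1 fun he => hodd (even_iff_two_dvd.1 he)
          have e : ι h = (ι h ^ 2) ^ (a + 1) := by
            rw [← pow_mul, show 2 * (a + 1) = orderOf (ι h) + 1 by omega, pow_succ, pow_orderOf_eq_one, one_mul]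
          rw [e]
          exact Commute.pow_left (show Commute (ι h ^ 2) (ι x) from mul_inv_eq_iff_eq_mul.1 hc2) _
        have h5 : ι x * ι x = 1 := by
          rw [hc1.eq, mul_inv_cancel_right] at hconj
          exact mul_eq_one_iff_eq_inv.2 hconj
        exact hx1' (orderOf_eq_one_iff.1 (Nat.eq_one_of_dvd_coprimes (Nat.coprime_two_left.2 hxo')
          (orderOf_dvd_of_pow_eq_one (by rw [pow_two, h5])) dvd_rfl))
      exact hhe.trans (Subgroup.orderOf_dvd_natCard _ (mem_inf.2 ⟨hhN, hιT h⟩))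
    have h4 : 2 ^ 2 ∣ Nat.card (normalizer (P : Set X)) := by
      rw [hfr, pow_two]
      exact mul_dvd_mul hd h2N
    obtain ⟨H, hH⟩ := Sylow.exists_subgroup_card_pow_prime 2 h4
    -- the subgroup of order three
    obtain ⟨j, hj⟩ := R.2 x0
    obtain ⟨i, -, hi⟩ := (Nat.dvd_prime_pow Nat.prime_three).1
      (orderOf_dvd_of_pow_eq_one (show x ^ 3 ^ j = 1 from congrArg Subtype.val hj))
    obtain ⟨i, rfl⟩ : ∃ i', i = i' + 1 := Nat.exists_eq_succ_of_ne_zero fun h0 =>
      hx1 (orderOf_eq_one_iff.1 (by rw [hi, h0, pow_zero]))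
    set y := ι x ^ 3 ^ i with hy
    have hyo : orderOf y = 3 := by
      rw [hy, orderOf_pow_of_dvd (pow_ne_zero _ (by norm_num)), orderOf_injective ι hιinj, hi]
      · rw [pow_succ, Nat.mul_div_cancel_left _ (pow_pos (by norm_num) i)]
      · rw [orderOf_injective ι hιinj, hi]
        exact pow_dvd_pow 3 i.le_succ
    have hNy : normalizer (P : Set X) ≤ normalizer ((zpowers y : Subgroup X) : Set X) := by
      intro n hn
      rw [hPx, mem_normalizer_iff_map_conj_eq, MonoidHom.map_zpowers] at hn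
      have hn' : zpowers (n * ι x * n⁻¹) = zpowers (ι x) := hn
      rw [mem_normalizer_iff_map_conj_eq, MonoidHom.map_zpowers]
      show zpowers (n * y * n⁻¹) = zpowers y
      refine eq_of_le_of_card_ge (zpowers_le.2 ?_) ?_
      · obtain ⟨c, hc⟩ := mem_zpowers_iff.1 (hn' ▸ mem_zpowers (n * ι x * n⁻¹))
        rw [hy, ← conj_pow, ← hc, ← zpow_natCast (ι x ^ c), ← zpow_mul, mul_comm, zpow_mul, zpow_natCast]
        exact zpow_mem (mem_zpowers _) c
      · rw [Nat.card_zpowers, Nat.card_zpowers]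
        exact ((MulAut.conj n).orderOf_eq y).ge
    have := two_dvd_pred D.cit (p := 3) (by norm_num) (P := zpowers y) (by rw [Nat.card_zpowers, hyo])
      (H := H.map (normalizer (P : Set X)).subtype) ((IsPGroup.of_card hH).map _)
      ((map_subtype_le H).trans hNy)
    rw [card_map_of_injective (subtype_injective _), hH] at this
    norm_num at this
  have hT1 : T.index = 1 := by
    by_contra hne
    obtain ⟨r, hr, hrd⟩ := Nat.exists_prime_and_dvd hne
    by_cases h2 : r = 2
    · exact h2_index (h2 ▸ hrd)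
    · exact hodd_index r hr h2 hrd
  rw [index_eq_one] at hT1
  exact ⟨((topEquiv (G := X)).symm.trans (MulEquiv.subgroupCongr hT1.symm)).trans (f.trans g.symm)⟩

/-- The main theorem. -/
theorem prime_graph_psl_two_even (hm : 4 ≤ m) (hF : Fintype.card F = 2 ^ m)
    (hpr : ∀ r : ℕ, r.Prime → (r ∣ Nat.card (Matrix.ProjectiveSpecialLinearGroup (Fin 2) F) ↔ r ∣ Nat.card G))
    (hadj : ∀ r s : ℕ, r.Prime → s.Prime → r ≠ s →
      ((∃ x : Matrix.ProjectiveSpecialLinearGroup (Fin 2) F, orderOf x = r * s) ↔ ∃ y : G, orderOf y = r * s)) :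
    Nonempty (G ⧸ Cfsg.pCore 2 G ≃* Matrix.ProjectiveSpecialLinearGroup (Fin 2) F) := by
  obtain ⟨T, hT⟩ := exists_data hm hF hpr hadj
  exact hT.conclusion hF

end CfsgLib.Recog.CITGraph
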