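import Cfsg.Agent.Lib.Recog.CITPrimeGraph.Basic
import Cfsg.Agent.Lib.Recog.ThreePrimes
import Cfsg.Agent.Lib.Recog.PrimeGraph
import Cfsg.Agent.Lib.Recog.PSLTwoOrders
import Cfsg.Agent.Lib.Classical.SL2Structure
import Cfsg.Agent.Lib.Classical.SL2Trace
import Cfsg.Agent.Lib.Classical.Dickson.SubgroupFacts
import Cfsg.Agent.Lib.LocalEven.Zsigmondy
import Cfsg.Agent.Lib.Known.L34.Upper

/-!
Owner: helper3. Groups with the prime graph of `PSL(2, 2^m)`, `m ≥ 4`.
-/

set_option autoImplicit false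
set_option linter.all false

namespace CfsgLib.Recog.CITGraph

open Subgroup
open CfsgLib.CIT (CIT)
open scoped MatrixGroups

universe u

/-- `2` has order exactly `k` modulo the prime `r`. -/
def PrimTwo (r k : ℕ) : Prop :=
  r.Prime ∧ r ∣ 2 ^ k - 1 ∧ ∀ j : ℕ, 0 < j → j < k → ¬ r ∣ 2 ^ j - 1

theorem exists_primTwo {k : ℕ} (hk : 2 ≤ k) (h6 : k ≠ 6) : ∃ r, PrimTwo r k :=
  CfsgLib.Zsigmondy.exists_primitive_prime_divisor one_lt_two hk (fun h => h6 h.2) (by
    rintro ⟨-, m, hm⟩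
    rcases m with _ | m
    · norm_num at hm
    · rw [pow_succ] at hm
      omega)

theorem PrimTwo.ne_two {r k : ℕ} (h : PrimTwo r k) (hk : 0 < k) : r ≠ 2 := by
  rintro rfl
  have h1 := h.2.1
  obtain ⟨j, rfl⟩ : ∃ j, k = j + 1 := Nat.exists_eq_succ_of_ne_zero hk.ne'
  have h2 : 0 < 2 ^ j := pow_pos two_pos j
  rw [pow_succ] at h1
  omega

theorem PrimTwo.dvd {r k : ℕ} (h : PrimTwo r k) (hk : 0 < k) {j : ℕ} (hj : r ∣ 2 ^ j - 1) : k ∣ j := by
  have hg := Nat.pow_sub_one_gcd_pow_sub_one 2 k j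
  have h1 : r ∣ 2 ^ Nat.gcd k j - 1 := hg ▸ Nat.dvd_gcd h.2.1 hj
  by_contra hne
  exact h.2.2 _ (Nat.gcd_pos_of_pos_left j hk) (lt_of_le_of_ne (Nat.gcd_le_left j hk)
    fun h0 => hne (h0 ▸ Nat.gcd_dvd_right k j)) h1

theorem dvd_two_mul_of_dvd_add_one {r j : ℕ} (h : r ∣ 2 ^ j + 1) : r ∣ 2 ^ (2 * j) - 1 := by
  have e : 2 ^ (2 * j) - 1 = (2 ^ j + 1) * (2 ^ j - 1) := by
    rw [← Nat.sq_sub_sq, one_pow, ← pow_mul, mul_comm]
  exact e ▸ h.mul_right _

theorem sq_pred (n : ℕ) : (2 ^ n) ^ 2 - 1 = (2 ^ n + 1) * (2 ^ n - 1) := by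
  rw [← Nat.sq_sub_sq, one_pow]

theorem two_pow_two_mul (n : ℕ) : 2 ^ (2 * n) = (2 ^ n) ^ 2 := by rw [← pow_mul, mul_comm]

/-- The numerical data of a group with the prime graph of `PSL(2, 2^m)` and its simple normal subgroup. -/
structure Data (m : ℕ) (X : Type u) [Group X] (T : Subgroup X) : Prop where
  cit : CIT X
  four : 4 ≤ m
  primes : ∀ r : ℕ, r.Prime → r ≠ 2 → (r ∣ Nat.card X ↔ r ∣ 2 ^ (2 * m) - 1)
  adjacent : m = 6 → ∃ x : X, orderOf x = 65
  simple : IsSimpleGroup T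
  nonab : ¬ IsMulCommutative T
  even : 2 ∣ Nat.card T
  normal : T.Normal

section Numeric

variable {X : Type u} [Group X] [Finite X] {T : Subgroup X} {m : ℕ}

/-- The primitive prime divisors of `q² - 1` and `q - 1` divide `|T|` or act on its Sylow 2-subgroup. -/
theorem Data.prime_cases (D : Data m X T) {r : ℕ} (hr : r.Prime) (hr2 : r ≠ 2) (hd : r ∣ 2 ^ (2 * m) - 1) :
    r ∣ Nat.card T ∨ r ∣ 2 ^ (Nat.card T).factorization 2 - 1 := by
  haveI := D.normal
  have h := (D.primes r hr hr2).2 hd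
  rw [← T.card_mul_index] at h
  rcases hr.dvd_mul.1 h with h | h
  · exact Or.inl h
  · obtain ⟨S, hST, hS, hSc, hidx⟩ := exists_sylow_two T
    refine Or.inr (hSc ▸ ?_)
    simpa using pow_dvd_sub_one D.cit T hST hS hidx hr hr2 (n := 1) (by rw [pow_one]; exact h.mul_right _)

theorem Data.dvd_of_prime (D : Data m X T) {r : ℕ} (hr : r.Prime) (hr2 : r ≠ 2) (hd : r ∣ Nat.card T) :
    r ∣ 2 ^ (2 * m) - 1 :=
  (D.primes r hr hr2).1 (hd.trans (T.card_subgroup_dvd_card))

/-- A primitive prime for the exponent of the Sylow 2-subgroup, outside `|T|`, forces the count. -/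
theorem Data.count_of_prim (D : Data m X T) {e r : ℕ} (he : (Nat.card T).factorization 2 = e) (he2 : 2 ≤ e)
    (hp : PrimTwo r e) (hrm : r ∣ 2 ^ (2 * m) - 1) (hrT : ¬ r ∣ Nat.card T) :
    Nat.card T = (2 ^ e + 1) * (2 ^ e * (2 ^ e - 1)) := by
  haveI := D.normal
  haveI := D.simple
  haveI : Fact (Nat.Prime 2) := ⟨Nat.prime_two⟩
  have hr2 := hp.ne_two (by omega)
  obtain ⟨S, hST, hS, hSc, hidx⟩ := exists_sylow_two T
  rw [he] at hSc
  have hrX := (D.primes r hp.1 hr2).2 hrm
  rw [← T.card_mul_index] at hrX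
  have hri : r ∣ T.index := (hp.1.dvd_mul.1 hrX).resolve_left hrT
  have hrN : r ∣ Nat.card (normalizer (S : Set X)) := by
    rw [(CfsgLib.Recog.SmallOrders.frattini_card T hST hS hidx).1]
    exact hri.mul_right _
  have helem := elementary_of_prim D.cit hS hSc hp.1 hr2 hp.2.2 hrN
  exact (elementary_count D.nonab (D.cit.subgroup T) (S := S.subgroupOf T) hS.comap_subtype hidx he2
    (by rw [Nat.card_congr (subgroupOfEquivOfLe hST).toEquiv, hSc])
    fun x hx => Subtype.ext (helem x (mem_subgroupOf.1 hx))).1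

theorem factorization_two_of {N e c : ℕ} (hN : N = 2 ^ e * c) (hc : Odd c) : N.factorization 2 = e := by
  subst hN
  rw [Nat.factorization_mul (pow_ne_zero _ two_ne_zero) (fun h => by simp [h] at hc), Finsupp.add_apply,
    Nat.Prime.factorization_pow Nat.prime_two, Finsupp.single_eq_same,
    Nat.factorization_eq_zero_of_not_dvd hc.not_two_dvd_nat, add_zero]

/-- No simple group whose primes lie below eight. -/
theorem Data.not_small (D : Data m X T) {e : ℕ} (he : (Nat.card T).factorization 2 = e) (he6 : e ≤ 6)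
    (hT : ∀ r : ℕ, r.Prime → r ∣ Nat.card T → r ≤ 7) : False := by
  have hm := D.four
  obtain ⟨s, hs⟩ := exists_primTwo (k := 2 * m) (by omega) (by omega)
  rcases D.prime_cases hs.1 (hs.ne_two (by omega)) hs.2.1 with h | h
  · have h7 := hT s hs.1 h
    have h2 := hs.1.two_le
    have hne := hs.ne_two (by omega)
    interval_cases s
    · exact hne rfl
    · exact hs.2.2 2 (by norm_num) (by omega) (by norm_num)
    · exact absurd hs.1 (by norm_num)
    · exact hs.2.2 4 (by norm_num) (by omega) (by norm_num)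
    · exact absurd hs.1 (by norm_num)
    · exact hs.2.2 3 (by norm_num) (by omega) (by norm_num)
  · rw [he] at h
    rcases Nat.eq_zero_or_pos e with rfl | hpos
    · have he0 := D.even
      have h1 := (Nat.prime_two.factorization_pos_of_dvd Nat.card_pos.ne' he0)
      omega
    · have := Nat.le_of_dvd hpos (hs.dvd (by omega) h)
      omega

/-- `|T|` is that of `PSL(2, 2^n)` only for `n = m`. -/
theorem Data.eq_of_psl_two_even (D : Data m X T) {n : ℕ} (hT : Nat.card T = 2 ^ n * ((2 ^ n) ^ 2 - 1)) : n = m := by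
  have hm := D.four
  have hn : 0 < n := Nat.pos_of_ne_zero fun h0 => by
    subst h0
    rw [pow_zero, one_pow, Nat.sub_self, mul_zero] at hT
    exact Nat.card_pos.ne' hT
  have he : (Nat.card T).factorization 2 = n :=
    factorization_two_of hT (Nat.not_even_iff_odd.1 fun h => by
      have h2 : Even (2 ^ (2 * n)) := even_two.pow_of_ne_zero (by omega)
      rw [← two_pow_two_mul] at h
      have : 1 ≤ 2 ^ (2 * n) := Nat.one_le_two_pow
      obtain ⟨a, ha⟩ := h
      obtain ⟨b, hb⟩ := h2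
      omega)
  obtain ⟨s, hs⟩ := exists_primTwo (k := 2 * m) (by omega) (by omega)
  have hs2 := hs.ne_two (by omega)
  have hmn : 2 * m ∣ 2 * n := by
    rcases D.prime_cases hs.1 hs2 hs.2.1 with h | h
    · rw [hT] at h
      rcases hs.1.dvd_mul.1 h with h | h
      · exact absurd ((Nat.prime_dvd_prime_iff_eq hs.1 Nat.prime_two).1 (hs.1.dvd_of_dvd_pow h)) hs2
      · rw [← two_pow_two_mul] at h
        exact hs.dvd (by omega) h
    · exact (hs.dvd (by omega) (he ▸ h)).mul_left 2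
  have hle : 2 * m ≤ 2 * n := Nat.le_of_dvd (by omega) hmn
  obtain ⟨t, ht⟩ := exists_primTwo (k := 2 * n) (by omega) (by omega)
  have htT : t ∣ Nat.card T := by
    rw [hT, ← two_pow_two_mul]
    exact ht.2.1.mul_left _
  have h2 := ht.dvd (by omega) (D.dvd_of_prime ht.1 (ht.ne_two (by omega)) htT)
  have := Nat.dvd_antisymm hmn h2
  omega

/-- The order of `PSL(2, p)`, `p` a prime next to a power of two. -/
theorem Data.not_psl_two_prime (D : Data m X T) {p k : ℕ} (hp : p.Prime) (hpk : p = 2 ^ k + 1 ∨ p + 1 = 2 ^ k)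
    (hT : 2 * Nat.card T = p * (p ^ 2 - 1)) (hp5 : 5 ≤ p) : False := by
  have hm := D.four
  obtain ⟨j, rfl⟩ : ∃ j, k = j + 2 := by
    refine ⟨k - 2, ?_⟩
    rcases k with _ | _ | k
    · rcases hpk with h | h <;> simp at h <;> omega
    · rcases hpk with h | h <;> norm_num at h <;> omega
    · omega
  have hj1 : 1 ≤ 2 ^ (j + 1) := Nat.one_le_two_pow
  have hk1 : 2 ^ (j + 2) = 2 * 2 ^ (j + 1) := by rw [pow_succ' 2 (j + 1)]
  have h2k : 2 ^ (2 * (j + 1)) - 1 = (2 ^ (j + 1) + 1) * (2 ^ (j + 1) - 1) := by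
    rw [two_pow_two_mul, sq_pred]
  -- the odd part
  have hodd : ∃ c, Nat.card T = 2 ^ (j + 2) * (p * c) ∧ c ∣ 2 ^ (2 * (j + 1)) - 1 ∧ Odd c := by
    rcases hpk with h | h
    · refine ⟨2 ^ (j + 1) + 1, ?_, h2k ▸ dvd_mul_right _ _, (even_two.pow_of_ne_zero (by omega)).add_one⟩
      have e : p ^ 2 - 1 = 2 * (2 * (2 ^ (j + 1) + 1) * 2 ^ (j + 1)) := by
        rw [h, hk1]
        zify [show 1 ≤ (2 * 2 ^ (j + 1) + 1) ^ 2 from Nat.one_le_pow _ _ (by omega)]
        ring
      rw [e] at hT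
      rw [hk1]
      nlinarith
    · refine ⟨2 ^ (j + 1) - 1, ?_, h2k ▸ dvd_mul_left _ _, ?_⟩
      · obtain ⟨a, ha⟩ : ∃ a, 2 ^ (j + 1) = a + 1 := ⟨2 ^ (j + 1) - 1, by omega⟩
        have hpe : p = 2 * a + 1 := by rw [hk1, ha] at h; omega
        have e : p ^ 2 - 1 = 2 * (2 * a * (a + 1)) := by
          rw [hpe]
          zify [show 1 ≤ (2 * a + 1) ^ 2 from Nat.one_le_pow _ _ (by omega)]
          ring
        rw [e] at hT
        rw [hk1, ha, Nat.add_sub_cancel]
        nlinarith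
      · rw [Nat.odd_iff, pow_succ]
        have : 1 ≤ 2 ^ j := Nat.one_le_two_pow
        omega
  obtain ⟨c, hc, hcd, hco⟩ := hodd
  have hp2 : p ≠ 2 := by omega
  have he : (Nat.card T).factorization 2 = j + 2 :=
    factorization_two_of hc ((hp.odd_of_ne_two hp2).mul hco)
  have hcases : ∀ r : ℕ, r.Prime → r ≠ 2 → r ∣ Nat.card T → r = p ∨ r ∣ 2 ^ (2 * (j + 1)) - 1 := by
    intro r hr hr2 hd
    rw [hc] at hd
    rcases hr.dvd_mul.1 hd with h | h
    · exact absurd ((Nat.prime_dvd_prime_iff_eq hr Nat.prime_two).1 (hr.dvd_of_dvd_pow h)) hr2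
    rcases hr.dvd_mul.1 h with h | h
    · exact Or.inl ((Nat.prime_dvd_prime_iff_eq hr hp).1 h)
    · exact Or.inr (h.trans hcd)
  have hpm : p ∣ 2 ^ (2 * m) - 1 :=
    D.dvd_of_prime hp hp2 (hc ▸ (dvd_mul_right p c).mul_left _)
  obtain ⟨s, hs⟩ := exists_primTwo (k := 2 * m) (by omega) (by omega)
  have hs2 := hs.ne_two (by omega)
  -- the order of two modulo `p`
  rcases hpk with hpp | hpp
  · have hprim : PrimTwo p (2 * (j + 2)) := by
      refine ⟨hp, dvd_two_mul_of_dvd_add_one (dvd_of_eq hpp), fun i hi0 hi hd => ?_⟩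
      have h1 : p ∣ 2 ^ Nat.gcd i (2 * (j + 2)) - 1 :=
        Nat.pow_sub_one_gcd_pow_sub_one 2 i (2 * (j + 2)) ▸
          Nat.dvd_gcd hd (dvd_two_mul_of_dvd_add_one (dvd_of_eq hpp))
      have hg : Nat.gcd i (2 * (j + 2)) ≤ j + 2 := by
        obtain ⟨b, hb⟩ := Nat.gcd_dvd_right i (2 * (j + 2))
        have := Nat.gcd_le_left (2 * (j + 2)) hi0
        rcases b with _ | _ | b
        · omega
        · omega
        · nlinarith
      have h2 := Nat.le_of_dvd (Nat.sub_pos_of_lt (Nat.one_lt_two_pow (Nat.gcd_pos_of_pos_left _ hi0).ne')) h1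
      have h3 : 2 ^ Nat.gcd i (2 * (j + 2)) ≤ 2 ^ (j + 2) := Nat.pow_le_pow_right two_pos hg
      omega
    have hkm : j + 2 ∣ m := Nat.dvd_of_mul_dvd_mul_left two_pos (hprim.dvd (by omega) hpm)
    have hmk : m = j + 2 := by
      rcases D.prime_cases hs.1 hs2 hs.2.1 with h | h
      · rcases hcases s hs.1 hs2 h with rfl | h
        · have h1 := hprim.dvd (by omega) hs.2.1
          have h2 := hs.dvd (by omega) hprim.2.1
          have := Nat.dvd_antisymm h1 h2
          omega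
        · exfalso
          have h1 := Nat.le_of_dvd (by omega) (hs.dvd (by omega) h)
          have h2 := Nat.le_of_dvd (by omega) hkm
          omega
      · exfalso
        rw [he] at h
        have h1 := Nat.le_of_dvd (by omega) (hs.dvd (by omega) h)
        have h2 := Nat.le_of_dvd (by omega) hkm
        omega
    subst hmk
    have hm6 : j + 2 ≠ 6 := by
      intro h6
      rw [hpp, h6] at hp
      norm_num at hp
    obtain ⟨r, hr⟩ := exists_primTwo (k := j + 2) (by omega) hm6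
    have hr2 := hr.ne_two (by omega)
    have hrT : ¬ r ∣ Nat.card T := fun h => by
      rcases hcases r hr.1 hr2 h with rfl | h
      · exact hprim.2.2 (j + 2) (by omega) (by omega) hr.2.1
      · have hd : j + 2 ∣ 2 := (Nat.dvd_add_right (hr.dvd (by omega) h)).1 ⟨2, by ring⟩
        have := Nat.le_of_dvd two_pos hd
        omega
    have hcount := D.count_of_prim he (by omega) hr (hr.2.1.trans (by
      rw [two_pow_two_mul, sq_pred]; exact dvd_mul_left _ _)) hrT
    rw [← hpp] at hcount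
    have hp0 : 0 < p := hp.pos
    have e : p ^ 2 - 1 = (p + 1) * (p - 1) := by rw [← Nat.sq_sub_sq, one_pow]
    rw [e, hcount, hpp, Nat.add_sub_cancel] at hT
    have h4 : 0 < 2 ^ (j + 2) := Nat.two_pow_pos _
    have h5 : (2 ^ (j + 2) + 1) * 2 ^ (j + 2) * (2 * (2 ^ (j + 2) - 1)) =
        (2 ^ (j + 2) + 1) * 2 ^ (j + 2) * (2 ^ (j + 2) + 1 + 1) := by linarith
    have h6 := Nat.eq_of_mul_eq_mul_left (by positivity) h5
    have h7 : 16 ≤ 2 ^ (j + 2) := le_trans (by norm_num) (Nat.pow_le_pow_right two_pos hm)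
    omega
  · have hkd : p ∣ 2 ^ (j + 2) - 1 := dvd_of_eq (by omega)
    have hprim : PrimTwo p (j + 2) := ⟨hp, hkd, fun i hi0 hi hd => by
      have h2 := Nat.le_of_dvd (Nat.sub_pos_of_lt (Nat.one_lt_two_pow hi0.ne')) hd
      have h3 : 2 ^ i < 2 ^ (j + 2) := Nat.pow_lt_pow_right one_lt_two hi
      omega⟩
    have hkm : j + 2 ∣ 2 * m := hprim.dvd (by omega) hpm
    have hcase : 2 * m = j + 2 ∨ 2 * m ∣ 2 * (j + 1) := by
      rcases D.prime_cases hs.1 hs2 hs.2.1 with h | h
      · rcases hcases s hs.1 hs2 h with rfl | h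
        · exact Or.inl (Nat.dvd_antisymm (hs.dvd (by omega) hprim.2.1) hkm)
        · exact Or.inr (hs.dvd (by omega) h)
      · exact Or.inl (Nat.dvd_antisymm (hs.dvd (by omega) (he ▸ h)) hkm)
    rcases hcase with h | h
    · have h3 : 3 ∣ p := by
        have : 2 ^ 2 - 1 ∣ 2 ^ (j + 2) - 1 := Nat.pow_sub_one_dvd_pow_sub_one 2 ⟨m, h.symm⟩
        rw [show p = 2 ^ (j + 2) - 1 by omega]
        exact this
      have := (Nat.prime_dvd_prime_iff_eq Nat.prime_three hp).1 h3
      omega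
    · have h1 : j + 2 ∣ 2 * (j + 1) := hkm.trans h
      have h2 : j + 2 ∣ 2 := (Nat.dvd_add_right h1).1 ⟨2, by ring⟩
      have := Nat.le_of_dvd two_pos h2
      have := Nat.le_of_dvd (by omega) h
      omega

/-- No simple CIT group of order `29120` has a Sylow 13-subgroup with small enough normaliser. -/
theorem suzuki_eight_absurd {T : Type u} [Group T] [Finite T] [IsSimpleGroup T] (hC : CIT T)
    (hT : Nat.card T = 29120) {x : T} (hx : orderOf x = 65) : False := by
  haveI : Fact (Nat.Prime 13) := ⟨by norm_num⟩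
  haveI : Fact (Nat.Prime 2) := ⟨Nat.prime_two⟩
  have hy : orderOf (x ^ 5) = 13 := by
    rw [orderOf_pow' _ (by norm_num), hx]
    norm_num
  have hPc : Nat.card (zpowers (x ^ 5)) = 13 := by rw [Nat.card_zpowers, hy]
  have hidx : ¬ 13 ∣ (zpowers (x ^ 5)).index := by
    have h := (zpowers (x ^ 5)).card_mul_index
    rw [hPc, hT] at h
    omega
  set S : Sylow 13 T := (IsPGroup.of_card (n := 1) (hPc.trans (pow_one 13).symm)).toSylow hidx
  have hS : (S : Subgroup T) = zpowers (x ^ 5) := rfl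
  have hxN : x ∈ normalizer ((zpowers (x ^ 5) : Subgroup T) : Set T) :=
    centralizer_le_normalizer _ (mem_centralizer_iff.2 fun g hg => by
      obtain ⟨i, rfl⟩ := mem_zpowers_iff.1 hg
      exact ((Commute.refl x).pow_left 5).zpow_left i)
  set N := normalizer ((zpowers (x ^ 5) : Subgroup T) : Set T) with hN
  have h65 : 65 ∣ Nat.card N := hx ▸ N.orderOf_dvd_natCard hxN
  have hn : Nat.card (Sylow 13 T) = N.index := by rw [Sylow.card_eq_index_normalizer S]; rfl
  have hmod : Nat.card (Sylow 13 T) % 13 = 1 := card_sylow_modEq_one 13 T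
  have hmul : Nat.card N * N.index = 29120 := by rw [N.card_mul_index, hT]
  rw [← hn] at hmul
  obtain ⟨c, hc⟩ := h65
  have h448 : c * Nat.card (Sylow 13 T) = 448 := by
    rw [hc, mul_assoc] at hmul
    omega
  have hmem : Nat.card (Sylow 13 T) ∈ Nat.divisors 448 := Nat.mem_divisors.2 ⟨Dvd.intro_left _ h448, by norm_num⟩
  generalize hk : Nat.card (Sylow 13 T) = k at *
  have hk2 : k = 1 ∨ k = 14 := by
    have : ∀ i ∈ Nat.divisors 448, i % 13 = 1 → i = 1 ∨ i = 14 := by decide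
    exact this k hmem hmod
  rcases hk2 with rfl | rfl
  · haveI := (Nat.card_eq_one_iff_unique.1 hk).1
    rcases IsSimpleGroup.eq_bot_or_eq_top_of_normal (S : Subgroup T) (Sylow.normal_of_subsingleton S) with h0 | h0
    · rw [← hS, h0, card_bot] at hPc
      norm_num at hPc
    · rw [← hS, h0, card_top, hT] at hPc
      norm_num at hPc
  · have h32 : 2 ^ 5 ∣ Nat.card N := ⟨65, by omega⟩
    obtain ⟨H, hH⟩ := Sylow.exists_subgroup_card_pow_prime 2 h32
    have := two_dvd_pred hC (p := 13) (by norm_num) hPc (H := H.map N.subtype)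
      ((IsPGroup.of_card hH).map _) (map_subtype_le H)
    rw [card_map_of_injective N.subtype_injective, hH] at this
    norm_num at this

/-- No Suzuki order. -/
theorem Data.not_suzuki (D : Data m X T) {M : ℕ} (hM : Odd M) (hM3 : 3 ≤ M)
    (hT : Nat.card T = (2 ^ M) ^ 2 * ((2 ^ M) ^ 2 + 1) * (2 ^ M - 1)) : False := by
  have hm := D.four
  have hQ : 1 ≤ 2 ^ M := Nat.one_le_two_pow
  have hev : Even (2 ^ M) := even_two.pow_of_ne_zero (by omega)
  have he : (Nat.card T).factorization 2 = 2 * M :=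
    factorization_two_of (by rw [hT, two_pow_two_mul, mul_assoc])
      ((hev.pow_of_ne_zero two_ne_zero).add_one.mul (Nat.not_even_iff_odd.1 fun h => by
        obtain ⟨a, ha⟩ := h
        obtain ⟨b, hb⟩ := hev
        omega))
  have hcases : ∀ r : ℕ, r.Prime → r ≠ 2 → r ∣ Nat.card T → r ∣ 2 ^ (4 * M) - 1 := by
    intro r hr hr2 hd
    rw [hT, ← two_pow_two_mul] at hd
    rcases hr.dvd_mul.1 hd with h | h
    · rcases hr.dvd_mul.1 h with h | h
      · exact absurd ((Nat.prime_dvd_prime_iff_eq hr Nat.prime_two).1 (hr.dvd_of_dvd_pow h)) hr2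
      · have := dvd_two_mul_of_dvd_add_one h
        rwa [show 2 * (2 * M) = 4 * M by ring] at this
    · exact h.trans (Nat.pow_sub_one_dvd_pow_sub_one 2 (dvd_mul_left M 4))
  obtain ⟨s, hs⟩ := exists_primTwo (k := 2 * m) (by omega) (by omega)
  have hs2 := hs.ne_two (by omega)
  have hm2 : m ∣ 2 * M := by
    rcases D.prime_cases hs.1 hs2 hs.2.1 with h | h
    · have h2 := hs.dvd (by omega) (hcases s hs.1 hs2 h)
      rw [show 4 * M = 2 * (2 * M) by ring] at h2
      exact Nat.dvd_of_mul_dvd_mul_left two_pos h2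
    · exact (dvd_mul_left m 2).trans (hs.dvd (by omega) (he ▸ h))
  obtain ⟨t, ht⟩ := exists_primTwo (k := 4 * M) (by omega) (by omega)
  have htT : t ∣ Nat.card T := by
    have h1 := ht.2.1
    rw [show 4 * M = 2 * (2 * M) by ring, two_pow_two_mul, sq_pred] at h1
    rcases ht.1.dvd_mul.1 h1 with h | h
    · rw [hT, ← two_pow_two_mul]
      exact (h.mul_left _).mul_right _
    · exact absurd h (ht.2.2 (2 * M) (by omega) (by omega))
  have h4 := ht.dvd (by omega) (D.dvd_of_prime ht.1 (ht.ne_two (by omega)) htT)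
  rw [show 4 * M = 2 * (2 * M) by ring] at h4
  obtain rfl : m = 2 * M := Nat.dvd_antisymm hm2 (Nat.dvd_of_mul_dvd_mul_left two_pos h4)
  by_cases h6 : 2 * M = 6
  · -- the order is 29120: a Sylow 13-normaliser is too large
    obtain rfl : M = 3 := by omega
    norm_num at hT
    haveI := D.normal
    haveI := D.simple
    obtain ⟨x, hx⟩ := D.adjacent rfl
    obtain ⟨S, hST, hS, hSc, hidx⟩ := exists_sylow_two T
    rw [he] at hSc
    have hxT : x ∈ T := by
      rw [← QuotientGroup.eq_one_iff, ← orderOf_eq_one_iff]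
      refine (Nat.eq_one_iff_not_exists_prime_dvd).2 fun r hr hd => ?_
      have h65 : r ∣ 5 * 13 := (hd.trans (orderOf_map_dvd (QuotientGroup.mk' T) x)).trans (dvd_of_eq hx)
      have hdi : r ∣ T.index := hd.trans (orderOf_dvd_natCard _)
      rcases hr.dvd_mul.1 h65 with h | h <;>
        have hre := (Nat.prime_dvd_prime_iff_eq hr (by norm_num)).1 h <;> subst hre <;>
        have h63 := pow_dvd_sub_one D.cit T hST hS hidx hr (by norm_num) (n := 1)
          (by rw [pow_one]; exact hdi.mul_right _) <;>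
        rw [hSc] at h63 <;> norm_num at h63
    exact suzuki_eight_absurd (D.cit.subgroup T) hT (x := ⟨x, hxT⟩) (by rw [Subgroup.orderOf_mk, hx])
  obtain ⟨r, hr⟩ := exists_primTwo (k := 2 * M) (by omega) h6
  have hr2 := hr.ne_two (by omega)
  have hrT : ¬ r ∣ Nat.card T := fun h => by
    rw [hT, ← two_pow_two_mul] at h
    rcases hr.1.dvd_mul.1 h with h | h
    · rcases hr.1.dvd_mul.1 h with h | h
      · exact absurd ((Nat.prime_dvd_prime_iff_eq hr.1 Nat.prime_two).1 (hr.1.dvd_of_dvd_pow h)) hr2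
      · have h1 := hr.2.1
        have : r ∣ 2 ^ (2 * M) + 1 - (2 ^ (2 * M) - 1) := Nat.dvd_sub h h1
        rw [show 2 ^ (2 * M) + 1 - (2 ^ (2 * M) - 1) = 2 by
          have : 1 ≤ 2 ^ (2 * M) := Nat.one_le_two_pow
          omega] at this
        exact hr2 ((Nat.prime_dvd_prime_iff_eq hr.1 Nat.prime_two).1 this)
    · exact hr.2.2 M (by omega) (by omega) h
  have hcount := D.count_of_prim he (by omega) hr (hr.2.1.trans (by
    rw [two_pow_two_mul (2 * M), sq_pred]; exact dvd_mul_left _ _)) hrT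
  rw [hT, two_pow_two_mul, sq_pred] at hcount
  have h8 : 8 ≤ 2 ^ M := le_trans (by norm_num) (Nat.pow_le_pow_right two_pos hM3)
  have h5 : (2 ^ M) ^ 2 * ((2 ^ M) ^ 2 + 1) * (2 ^ M - 1) * 1 =
      (2 ^ M) ^ 2 * ((2 ^ M) ^ 2 + 1) * (2 ^ M - 1) * (2 ^ M + 1) := by rw [mul_one]; linarith
  have hpos : 0 < (2 ^ M) ^ 2 * ((2 ^ M) ^ 2 + 1) * (2 ^ M - 1) := by
    have : 0 < 2 ^ M - 1 := by omega
    positivity
  have := Nat.eq_of_mul_eq_mul_left hpos h5
  omega

end Numeric

end CfsgLib.Recog.CITGraph
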